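import Cfsg.Agent.M12Order.Eleven
import Cfsg.Agent.BrauerPrime.Small
import Cfsg.Agent.Char.ClassProducts

/-!
# The principal 11-block and class multiplication constants

For a simple group of order 95040 the characters outside the principal 11-block vanish at an element of
order eleven, so the structure constants involving that class only see the seven characters of the block.
-/

set_option autoImplicit false
set_option linter.style.haveILetI false
set_option linter.unusedSectionVars false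

namespace CfsgLib.M12Order

open Cfsg Finset CfsgLib.Block CfsgLib.Block.Chr CfsgLib.BrauerPairs CfsgLib.BrauerPrime
open CfsgLib.Cyclic (deg)
open scoped ComplexConjugate

universe u

/-- The centralizer of an element. -/
abbrev cz {G : Type*} [Group G] (g : G) : Subgroup G := Subgroup.centralizer ({g} : Set G)

variable {G : Type u} [Group G] [Fintype G]

theorem mem_cz {g x : G} : x ∈ cz g ↔ x * g = g * x := Subgroup.mem_centralizer_singleton_iff

/-- Free conjugation on the pairs with prescribed product. -/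
theorem dvd_pairs (K : Subgroup G) (a b c : G) (hK : ∀ k ∈ K, k * c = c * k)
    (hfree : ∀ k ∈ K, ∀ p : G, IsConj a p → IsConj b (p⁻¹ * c) → k * p = p * k → k = 1) :
    Nat.card K ∣ Nat.card {p : G × G // IsConj a p.1 ∧ IsConj b p.2 ∧ p.1 * p.2 = c} := by
  classical
  let Ω := {p : G × G // IsConj a p.1 ∧ IsConj b p.2 ∧ p.1 * p.2 = c}
  have hconj : ∀ (k : G) {u v : G}, IsConj u v → IsConj u (k * v * k⁻¹) := fun k u v h =>
    h.trans (isConj_iff.2 ⟨k, rfl⟩)
  have hsm : ∀ (k : K) (p : Ω), IsConj a ((k : G) * p.1.1 * (k : G)⁻¹) ∧ IsConj b ((k : G) * p.1.2 * (k : G)⁻¹) ∧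
      (k : G) * p.1.1 * (k : G)⁻¹ * ((k : G) * p.1.2 * (k : G)⁻¹) = c := fun k p => by
    refine ⟨hconj _ p.2.1, hconj _ p.2.2.1, ?_⟩
    rw [show (k : G) * p.1.1 * (k : G)⁻¹ * ((k : G) * p.1.2 * (k : G)⁻¹) = (k : G) * (p.1.1 * p.1.2) * (k : G)⁻¹ by
      group, p.2.2.2, hK k k.2, mul_inv_cancel_right]
  letI : MulAction K Ω :=
    { smul := fun k p => ⟨((k : G) * p.1.1 * (k : G)⁻¹, (k : G) * p.1.2 * (k : G)⁻¹), hsm k p⟩
      one_smul := fun p => Subtype.ext (Prod.ext (show ((1 : K) : G) * p.1.1 * ((1 : K) : G)⁻¹ = p.1.1 by simp)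
        (show ((1 : K) : G) * p.1.2 * ((1 : K) : G)⁻¹ = p.1.2 by simp))
      mul_smul := fun k l p => Subtype.ext (Prod.ext
        (show ((k * l : K) : G) * p.1.1 * ((k * l : K) : G)⁻¹ =
          (k : G) * ((l : G) * p.1.1 * (l : G)⁻¹) * (k : G)⁻¹ by push_cast; group)
        (show ((k * l : K) : G) * p.1.2 * ((k * l : K) : G)⁻¹ =
          (k : G) * ((l : G) * p.1.2 * (l : G)⁻¹) * (k : G)⁻¹ by push_cast; group)) }
  have hst : ∀ p : Ω, MulAction.stabilizer K p = ⊥ := fun p => by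
    refine (Subgroup.eq_bot_iff_forall _).2 fun k hk => Subtype.ext (hfree k k.2 p.1.1 p.2.1 ?_ ?_)
    · have h : p.1.2 = p.1.1⁻¹ * c := eq_inv_mul_iff_mul_eq.2 p.2.2.2
      exact h ▸ p.2.2.1
    · exact mul_inv_eq_iff_eq_mul.1 (congrArg (fun q : Ω => q.1.1) hk)
  rw [Nat.card_congr (MulAction.selfEquivSigmaOrbitsQuotientStabilizer K Ω), Nat.card_sigma]
  refine Finset.dvd_sum fun o _ => ?_
  rw [← Subgroup.index_eq_card, hst, Subgroup.index_bot]

/-- The configuration at the prime eleven. -/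
structure Dat (M : Ideal AlgInt) [M.IsPrime] [Fact (Nat.Prime 11)] (S : Sylow 11 G) (x : G)
    (X Y : Finset (IrrCharacter G)) (sg : IrrCharacter G → ℤ) (ε : ℤ) (θ : IrrCharacter G) : Prop where
  card : Nat.card G = 95040
  simple : IsSimpleGroup G
  mod : IsPModular 11 M
  setup : Setup G 11 S
  num : Num S 1 5 157
  blk : Blk M S 5 2 X Y sg ε
  xS : x ∈ (S : Subgroup G)
  x1 : x ≠ 1
  θY : θ ∈ Y

theorem not_comm [IsSimpleGroup G] (hcard : Nat.card G = 95040) : ¬ IsMulCommutative G := fun h => by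
  letI : CommGroup G := { (inferInstance : Group G) with mul_comm := h.is_comm.comm }
  have := IsSimpleGroup.prime_card (α := G)
  rw [hcard] at this
  norm_num at this

theorem exists_dat [IsSimpleGroup G] (hcard : Nat.card G = 95040) :
    ∃ (_ : Fact (Nat.Prime 11)) (M : Ideal AlgInt) (_ : M.IsPrime) (S : Sylow 11 G) (x : G)
      (X Y : Finset (IrrCharacter G)) (sg : IrrCharacter G → ℤ) (ε : ℤ) (θ : IrrCharacter G),
      Dat M S x X Y sg ε θ := by
  have hp : Nat.Prime 11 := by norm_num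
  haveI : Fact (Nat.Prime 11) := ⟨hp⟩
  obtain ⟨M, hM⟩ := exists_isPModular hp
  haveI := hM.2.1.isPrime
  obtain ⟨S⟩ : Nonempty (Sylow 11 G) := inferInstance
  have hS : Nat.card (S : Subgroup G) = 11 :=
    SmallDegreeGraph.card_sylow_eq_prime (by rw [hcard]; norm_num) (by rw [hcard]; norm_num) S
  have h : Setup G 11 S := setup_of_simple (fun hc => not_comm hcard (by
    haveI := hc
    exact ⟨⟨fun a b => (IsCyclic.commGroup (α := G)).mul_comm a b⟩⟩)) hS
  obtain ⟨hk, hC, he⟩ := eleven hcard S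
  have hnum : Nat.card (Sylow 11 G) = 1 + 157 * 11 := by rw [hk]
  obtain ⟨c, e, num⟩ := exists_num h hnum
  have hc : c = 1 := by have := num.cardC; rw [hC] at this; omega
  have he5 : e = 5 := num.he.symm.trans he
  subst hc he5
  obtain ⟨s, X, Y, sg, ε, B⟩ := exists_blk hM h num
  have hs : s = 2 := by have := B.hes; omega
  subst hs
  obtain ⟨x, hxS, hx1⟩ := exists_ne_one h
  obtain ⟨θ, hθ⟩ := card_pos.1 (B.cardY ▸ two_pos : 0 < Y.card)
  exact ⟨inferInstance, M, inferInstance, S, x, X, Y, sg, ε, θ, hcard, inferInstance, hM, h, num, B, hxS, hx1, hθ⟩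

namespace Dat

variable [Fact (Nat.Prime 11)] {M : Ideal AlgInt} [M.IsPrime] {S : Sylow 11 G} {x : G}
  {X Y : Finset (IrrCharacter G)} {sg : IrrCharacter G → ℤ} {ε : ℤ} {θ : IrrCharacter G}
  (D : Dat M S x X Y sg ε θ)

include D

theorem orderOf_x : orderOf x = 11 := orderOf_eq D.setup D.xS D.x1

theorem zpowers_x : Subgroup.zpowers x = (S : Subgroup G) := zpowers_eq D.setup D.xS D.x1

theorem card_cz_x : Nat.card (cz x) = 11 := by
  show Nat.card (Subgroup.centralizer ({x} : Set G)) = 11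
  rw [centralizer_singleton D.setup D.xS D.x1, D.num.cardC]

theorem cz_x : cz x = Subgroup.zpowers x :=
  (Subgroup.eq_of_le_of_card_ge (Subgroup.zpowers_le.2 (mem_cz.2 rfl))
    (by rw [D.card_cz_x, Nat.card_zpowers, D.orderOf_x])).symm

theorem index_x : Nat.card {y : G // IsConj x y} = 8640 := by
  rw [CfsgLib.Char.card_conj_class, D.num.index x D.xS D.x1]

theorem not_dvd_one : ¬ 11 ∣ orderOf (1 : G) := by rw [orderOf_one]; norm_num

/-- A power of `x` commutes only with powers of `x`. -/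
theorem eq_one_of_mem {y : G} (hy : y ∈ cz x) (h : ¬ 11 ∣ orderOf y) : y = 1 := by
  rw [D.cz_x] at hy
  have hd : orderOf y ∣ 11 := by
    have := Subgroup.orderOf_dvd_natCard _ hy
    rwa [Nat.card_zpowers, D.orderOf_x] at this
  rcases (Nat.dvd_prime (by norm_num)).1 hd with h' | h'
  · exact orderOf_eq_one_iff.1 h'
  · exact absurd (h' ▸ dvd_rfl) h

theorem not_real : ¬ IsConj x x⁻¹ := by
  intro h
  obtain ⟨g, hg⟩ := isConj_iff.1 h
  have hgN : g ∈ Subgroup.normalizer ((S : Subgroup G) : Set G) := by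
    rw [← D.zpowers_x]
    refine Subgroup.mem_normalizer_iff.2 fun w => ?_
    constructor
    · intro hw
      obtain ⟨i, rfl⟩ := Subgroup.mem_zpowers_iff.1 hw
      rw [← conj_zpow, hg]
      exact zpow_mem (inv_mem (Subgroup.mem_zpowers x)) i
    · intro hw
      obtain ⟨i, hi⟩ := Subgroup.mem_zpowers_iff.1 hw
      refine ⟨-i, ?_⟩
      show x ^ (-i) = w
      refine (MulAut.conj g).injective ?_
      rw [MulAut.conj_apply, MulAut.conj_apply, ← hi, ← conj_zpow, hg, zpow_neg, inv_zpow, inv_inv]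
  set C' := (Subgroup.centralizer ((S : Subgroup G) : Set G)).subgroupOf
    (Subgroup.normalizer ((S : Subgroup G) : Set G)) with hC'
  haveI : C'.Normal := by
    rw [hC', ← Subgroup.normalizerMonoidHom_ker]
    exact MonoidHom.normal_ker _
  have h5 : (⟨g, hgN⟩ : Subgroup.normalizer ((S : Subgroup G) : Set G)) ^ 5 ∈ C' := by
    have := Subgroup.pow_index_mem C' ⟨g, hgN⟩
    rwa [show C'.index = 5 from D.num.he] at this
  rw [hC', Subgroup.mem_subgroupOf, SubmonoidClass.coe_pow, ← centralizer_singleton D.setup D.xS D.x1] at h5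
  have h2 : g * g * x * (g * g)⁻¹ = x := by
    rw [show g * g * x * (g * g)⁻¹ = g * (g * x * g⁻¹) * g⁻¹ by group, hg,
      show g * x⁻¹ * g⁻¹ = (g * x * g⁻¹)⁻¹ by group, hg, inv_inv]
  have hgx : g * x * g⁻¹ = x := by
    have h5' : g ^ 5 * x * (g ^ 5)⁻¹ = x := by
      rw [(Subgroup.mem_centralizer_singleton_iff.1 h5), mul_inv_cancel_right]
    conv_rhs => rw [← h5', show g ^ 5 * x * (g ^ 5)⁻¹ =
      g * (g * g * (g * g * x * (g * g)⁻¹) * (g * g)⁻¹) * g⁻¹ by simp [pow_succ, mul_assoc], h2, h2]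
  rw [hg] at hgx
  have h11 := D.orderOf_x
  have hx2 : x ^ 2 = 1 := by rw [sq]; exact eq_inv_iff_mul_eq_one.1 hgx.symm
  have := orderOf_dvd_of_pow_eq_one hx2
  rw [h11] at this
  norm_num at this

theorem outside_zero {φ : IrrCharacter G} (hX : φ ∉ X) (hY : φ ∉ Y) :
    (φ : G → ℂ) x = 0 ∧ 11 ∣ charDegree (φ : G → ℂ) := by
  have h := outside D.mod D.setup D.num (φ := φ) fun h => ((D.blk.mem φ).1 h).elim hX hY
  exact ⟨h.2 x (by rw [D.orderOf_x]), h.1⟩

theorem valX {χ : IrrCharacter G} (hχ : χ ∈ X) : (χ : G → ℂ) x = (sg χ : ℂ) := D.blk.valP hχ D.xS D.x1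

/-- Sums against the column of `x`. -/
theorem sum_reduce [Fintype (IrrCharacter G)] (f : IrrCharacter G → ℂ) :
    ∑ χ : IrrCharacter G, f χ * conj ((χ : G → ℂ) x) =
      ∑ χ ∈ X, (sg χ : ℂ) * f χ + ∑ θ' ∈ Y, f θ' * conj ((θ' : G → ℂ) x) := by
  classical
  rw [← sum_subset (subset_univ (X ∪ Y)) fun χ _ h => by
    rw [mem_union, not_or] at h
    rw [(D.outside_zero h.1 h.2).1, map_zero, mul_zero]]
  rw [sum_union (disjoint_left.2 D.blk.disj), sum_congr rfl fun χ (hχ : χ ∈ X) => by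
    rw [D.valX hχ, map_intCast, mul_comm]]

theorem sum_exc : ∑ θ' ∈ Y, (θ' : G → ℂ) x = -(ε : ℂ) := D.blk.sumY D.mod D.setup D.xS D.x1

theorem eps_cases : ε = 1 ∨ ε = -1 := D.blk.signY

/-- Sums against the column of `x`, for a function constant on the exceptional characters. -/
theorem sum_reduce' [Fintype (IrrCharacter G)] (f : IrrCharacter G → ℂ) (hf : ∀ θ' ∈ Y, f θ' = f θ) :
    ∑ χ : IrrCharacter G, f χ * conj ((χ : G → ℂ) x) = ∑ χ ∈ X, (sg χ : ℂ) * f χ - (ε : ℂ) * f θ := by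
  rw [D.sum_reduce, sum_congr rfl fun θ' (hθ' : θ' ∈ Y) => by rw [hf θ' hθ'], ← mul_sum, ← map_sum,
    D.sum_exc, map_neg, map_intCast]
  ring

theorem sg_sq {χ : IrrCharacter G} (hχ : χ ∈ X) : (sg χ : ℂ) * (sg χ : ℂ) = 1 := by
  rcases D.blk.sign χ hχ with h | h <;> rw [h] <;> norm_num

/-- The squared absolute values of the exceptional values. -/
theorem sum_exc_norm : ∑ θ' ∈ Y, (θ' : G → ℂ) x * conj ((θ' : G → ℂ) x) = 6 := by
  classical
  letI := irrFintype (G := G)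
  have h := column_orth (G := G) x x
  rw [if_pos (IsConj.refl x), D.card_cz_x, D.sum_reduce,
    sum_congr rfl fun χ (hχ : χ ∈ X) => show (sg χ : ℂ) * (χ : G → ℂ) x = 1 by rw [D.valX hχ, D.sg_sq hχ],
    sum_const, D.blk.cardX] at h
  push_cast at h
  simp only [nsmul_eq_mul, mul_one] at h
  linear_combination h

/-- The squares of the exceptional values. -/
theorem sum_exc_sq : ∑ θ' ∈ Y, (θ' : G → ℂ) x * (θ' : G → ℂ) x = -5 := by
  classical
  letI := irrFintype (G := G)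
  have h := column_orth (G := G) x⁻¹ x
  rw [if_neg fun h => D.not_real h.symm, D.sum_reduce,
    sum_congr rfl fun χ (hχ : χ ∈ X) => show (sg χ : ℂ) * (χ : G → ℂ) x⁻¹ = 1 by
      rw [← conj_irr, D.valX hχ, map_intCast, D.sg_sq hχ],
    sum_const, D.blk.cardX, sum_congr rfl fun θ' (_ : θ' ∈ Y) => show (θ' : G → ℂ) x⁻¹ * conj ((θ' : G → ℂ) x) =
      conj ((θ' : G → ℂ) x * (θ' : G → ℂ) x) by rw [map_mul, conj_irr], ← map_sum] at h
  simp only [nsmul_eq_mul, mul_one] at h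
  have h2 : conj (∑ θ' ∈ Y, (θ' : G → ℂ) x * (θ' : G → ℂ) x) = -5 := by push_cast at h ⊢; linear_combination h
  have h3 := congrArg conj h2
  rw [Complex.conj_conj, map_neg, map_ofNat] at h3
  exact h3

/-- The bilinear form of the block. -/
noncomputable def bil (X : Finset (IrrCharacter G)) (sg : IrrCharacter G → ℤ) (ε : ℤ) (θ : IrrCharacter G)
    (a b : G) : ℂ :=
  ∑ χ ∈ X, (sg χ : ℂ) * ((χ : G → ℂ) a * (χ : G → ℂ) b / (χ : G → ℂ) 1) -
    (ε : ℂ) * ((θ : G → ℂ) a * (θ : G → ℂ) b / (θ : G → ℂ) 1)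

theorem agree {θ' : IrrCharacter G} (h : θ' ∈ Y) {g : G} (hg : ¬ 11 ∣ orderOf g) :
    (θ' : G → ℂ) g = (θ : G → ℂ) g :=
  D.blk.agree θ' h θ D.θY g hg

/-- Products of two regular classes equal to `x`. -/
theorem count_ab {a b : G} (ha : ¬ 11 ∣ orderOf a) (hb : ¬ 11 ∣ orderOf b) :
    (Nat.card {p : G × G // IsConj a p.1 ∧ IsConj b p.2 ∧ p.1 * p.2 = x} : ℂ) =
      (Nat.card {y : G // IsConj a y} : ℂ) * (Nat.card {y : G // IsConj b y} : ℂ) / 95040 * bil X sg ε θ a b := by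
  letI := irrFintype (G := G)
  rw [CfsgLib.Char.card_class_products a b x, D.card, ← sum_irr_eq (fun χ => χ a * χ b * conj (χ x) / χ 1)]
  rw [show ((95040 : ℕ) : ℂ) = 95040 by norm_num, sum_congr rfl fun (χ : IrrCharacter G) _ =>
    show (χ : G → ℂ) a * (χ : G → ℂ) b * conj ((χ : G → ℂ) x) / (χ : G → ℂ) 1 =
      ((χ : G → ℂ) a * (χ : G → ℂ) b / (χ : G → ℂ) 1) * conj ((χ : G → ℂ) x) by ring,
    D.sum_reduce' _ fun θ' h => by rw [D.agree h ha, D.agree h hb, D.agree h D.not_dvd_one]]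
  rfl

/-- The pairs come in orbits of length eleven. -/
theorem eleven_dvd {a b : G} (ha : ¬ 11 ∣ orderOf a) (ha1 : a ≠ 1) :
    11 ∣ Nat.card {p : G × G // IsConj a p.1 ∧ IsConj b p.2 ∧ p.1 * p.2 = x} := by
  rw [← D.card_cz_x]
  refine dvd_pairs (cz x) a b x (fun k hk => mem_cz.1 hk) fun k hk p hp _ hkp => ?_
  by_contra hk1
  have hpo : ¬ 11 ∣ orderOf p := by
    obtain ⟨g, rfl⟩ := isConj_iff.1 hp
    rwa [← MulAut.conj_apply, MulEquiv.orderOf_eq]
  rw [D.cz_x] at hk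
  have hk11 : orderOf k = 11 := by
    have hd : orderOf k ∣ 11 := by
      have := Subgroup.orderOf_dvd_natCard _ hk
      rwa [Nat.card_zpowers, D.orderOf_x] at this
    exact ((Nat.dvd_prime (by norm_num)).1 hd).resolve_left fun h => hk1 (orderOf_eq_one_iff.1 h)
  have hxk : x ∈ Subgroup.zpowers k := by
    rw [Subgroup.eq_of_le_of_card_ge (Subgroup.zpowers_le.2 hk)
      (by rw [Nat.card_zpowers, Nat.card_zpowers, hk11, D.orderOf_x])]
    exact Subgroup.mem_zpowers x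
  obtain ⟨i, hi⟩ := Subgroup.mem_zpowers_iff.1 hxk
  have hp1 := D.eq_one_of_mem (mem_cz.2 (by rw [← hi]; exact ((show Commute p k from hkp.symm).zpow_right i).eq)) hpo
  exact ha1 (isConj_one_left.1 (hp1 ▸ hp))

/-- Products of two members of the class of `x`. -/
theorem count_same {g : G} (hg : ¬ 11 ∣ orderOf g) :
    (Nat.card {p : G × G // IsConj x p.1 ∧ IsConj x p.2 ∧ p.1 * p.2 = g} : ℂ) = 8640 * 8640 / 95040 *
      (∑ χ ∈ X, conj ((χ : G → ℂ) g) / (χ : G → ℂ) 1 - 5 * (conj ((θ : G → ℂ) g) / (θ : G → ℂ) 1)) := by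
  classical
  letI := irrFintype (G := G)
  rw [CfsgLib.Char.card_class_products x x g, D.card, D.index_x,
    ← sum_irr_eq (fun χ => χ x * χ x * conj (χ g) / χ 1)]
  rw [← sum_subset (subset_univ (X ∪ Y)) fun (χ : IrrCharacter G) _ h => by
    rw [mem_union, not_or] at h
    rw [(D.outside_zero h.1 h.2).1]; simp]
  rw [sum_union (disjoint_left.2 D.blk.disj),
    sum_congr rfl fun χ (hχ : χ ∈ X) => show (χ : G → ℂ) x * (χ : G → ℂ) x * conj ((χ : G → ℂ) g) / (χ : G → ℂ) 1 =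
      conj ((χ : G → ℂ) g) / (χ : G → ℂ) 1 by rw [D.valX hχ, D.sg_sq hχ, one_mul],
    sum_congr rfl fun θ' (h : θ' ∈ Y) => show (θ' : G → ℂ) x * (θ' : G → ℂ) x * conj ((θ' : G → ℂ) g) / (θ' : G → ℂ) 1 =
      ((θ' : G → ℂ) x * (θ' : G → ℂ) x) * (conj ((θ : G → ℂ) g) / (θ : G → ℂ) 1) by
        rw [D.agree h hg, D.agree h D.not_dvd_one]; ring,
    ← sum_mul, D.sum_exc_sq]
  norm_num
  ring

/-- Products of a member of the class of `x` and one of the inverse class. -/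
theorem count_inv {g : G} (hg : ¬ 11 ∣ orderOf g) :
    (Nat.card {p : G × G // IsConj x p.1 ∧ IsConj x⁻¹ p.2 ∧ p.1 * p.2 = g} : ℂ) = 8640 * 8640 / 95040 *
      (∑ χ ∈ X, conj ((χ : G → ℂ) g) / (χ : G → ℂ) 1 + 6 * (conj ((θ : G → ℂ) g) / (θ : G → ℂ) 1)) := by
  classical
  letI := irrFintype (G := G)
  have hidx : Nat.card {y : G // IsConj x⁻¹ y} = 8640 := by
    rw [← D.index_x]
    refine Nat.card_congr (Equiv.subtypeEquiv (Equiv.inv G) fun y => ?_)
    show IsConj x⁻¹ y ↔ IsConj x y⁻¹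
    constructor <;> intro h <;> obtain ⟨c, hc⟩ := isConj_iff.1 h <;> refine isConj_iff.2 ⟨c, ?_⟩
    · rw [← hc]; group
    · rw [show c * x⁻¹ * c⁻¹ = (c * x * c⁻¹)⁻¹ by group, hc, inv_inv]
  rw [CfsgLib.Char.card_class_products x x⁻¹ g, D.card, D.index_x, hidx,
    ← sum_irr_eq (fun χ => χ x * χ x⁻¹ * conj (χ g) / χ 1)]
  rw [← sum_subset (subset_univ (X ∪ Y)) fun (χ : IrrCharacter G) _ h => by
    rw [mem_union, not_or] at h
    rw [(D.outside_zero h.1 h.2).1]; simp]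
  rw [sum_union (disjoint_left.2 D.blk.disj),
    sum_congr rfl fun χ (hχ : χ ∈ X) => show (χ : G → ℂ) x * (χ : G → ℂ) x⁻¹ * conj ((χ : G → ℂ) g) / (χ : G → ℂ) 1 =
      conj ((χ : G → ℂ) g) / (χ : G → ℂ) 1 by rw [← conj_irr, D.valX hχ, map_intCast, D.sg_sq hχ, one_mul],
    sum_congr rfl fun θ' (h : θ' ∈ Y) => show (θ' : G → ℂ) x * (θ' : G → ℂ) x⁻¹ * conj ((θ' : G → ℂ) g) / (θ' : G → ℂ) 1 =
      ((θ' : G → ℂ) x * conj ((θ' : G → ℂ) x)) * (conj ((θ : G → ℂ) g) / (θ : G → ℂ) 1) by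
        rw [← conj_irr, D.agree h hg, D.agree h D.not_dvd_one]; ring,
    ← sum_mul, D.sum_exc_norm]
  norm_num

/-- Such pairs are permuted freely by the centralizer of the product. -/
theorem cz_dvd {g : G} (hg : ¬ 11 ∣ Nat.card (cz g)) (y : G) :
    Nat.card (cz g) ∣ Nat.card {p : G × G // IsConj x p.1 ∧ IsConj y p.2 ∧ p.1 * p.2 = g} := by
  refine dvd_pairs (cz g) x y g (fun k hk => mem_cz.1 hk) fun k hk p hp _ hkp => ?_
  obtain ⟨c, rfl⟩ := isConj_iff.1 hp
  have hkx : c⁻¹ * k * c ∈ cz x := mem_cz.2 (by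
    calc c⁻¹ * k * c * x = c⁻¹ * (k * (c * x * c⁻¹)) * c := by group
      _ = c⁻¹ * (c * x * c⁻¹ * k) * c := by rw [hkp]
      _ = x * (c⁻¹ * k * c) := by group)
  have ho : orderOf (c⁻¹ * k * c) = orderOf k := by
    rw [show c⁻¹ * k * c = MulAut.conj c⁻¹ k by simp, MulEquiv.orderOf_eq]
  have h1 := D.eq_one_of_mem hkx (ho ▸ fun h => hg (h.trans (Subgroup.orderOf_dvd_natCard _ hk)))
  rw [h1, orderOf_one] at ho
  exact orderOf_eq_one_iff.1 ho.symm

/-- The column norm of the block at a regular element. -/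
theorem column_norm {g : G} (hg : ¬ 11 ∣ orderOf g) :
    ∑ χ ∈ X, ‖(χ : G → ℂ) g‖ ^ 2 + 2 * ‖(θ : G → ℂ) g‖ ^ 2 ≤ (Nat.card (cz g) : ℝ) := by
  classical
  letI := irrFintype (G := G)
  have h := column_orth (G := G) g g
  rw [if_pos (IsConj.refl g), sum_congr rfl fun (χ : IrrCharacter G) _ =>
    show (χ : G → ℂ) g * conj ((χ : G → ℂ) g) = (((‖(χ : G → ℂ) g‖ ^ 2 : ℝ)) : ℂ) by
      rw [Complex.mul_conj']; push_cast; rfl, ← Complex.ofReal_sum] at h
  have h' : ∑ χ : IrrCharacter G, ‖(χ : G → ℂ) g‖ ^ 2 = (Nat.card (cz g) : ℝ) := by exact_mod_cast h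
  rw [← h']
  refine le_of_eq_of_le ?_ (sum_le_sum_of_subset_of_nonneg (subset_univ (X ∪ Y)) fun _ _ _ => sq_nonneg _)
  rw [sum_union (disjoint_left.2 D.blk.disj),
    sum_congr rfl fun θ' (h : θ' ∈ Y) => show ‖(θ' : G → ℂ) g‖ ^ 2 = ‖(θ : G → ℂ) g‖ ^ 2 by rw [D.agree h hg],
    sum_const, D.blk.cardY, nsmul_eq_mul]
  norm_num

/-- The relation on regular elements. -/
theorem rel {g : G} (hg : ¬ 11 ∣ orderOf g) :
    (ε : ℂ) * (θ : G → ℂ) g = ∑ χ ∈ X, (sg χ : ℂ) * (χ : G → ℂ) g :=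
  D.blk.rel θ D.θY g hg

end Dat

end CfsgLib.M12Order
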