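import Cfsg.Agent.M12Order.Values

/-!
# The degrees of the principal 11-block are 1, 45, 54, 120, 144 and 16

Each of the other signed degree patterns is excluded by the values at an involution or at an element of
order five, once by the principal 5-block.
-/

set_option autoImplicit false
set_option linter.style.haveILetI false
set_option linter.unusedSectionVars false

namespace CfsgLib.M12Order

open Cfsg Finset CfsgLib.Block CfsgLib.Block.Chr CfsgLib.BrauerPairs CfsgLib.BrauerPrime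
open CfsgLib.Cyclic (deg)
open scoped ComplexConjugate

universe u

variable {G : Type u} [Group G] [Fintype G]

theorem signed_plus : ∀ d ∈ List.range 309, 8640 % d = 0 → 6 ≤ d → d % 11 = 1 →
    (d : ℤ) ∈ [(-120 : ℤ), -54, -32, -10, 12, 45, 144] := by decide +kernel

theorem signed_minus : ∀ d ∈ List.range 309, 8640 % d = 0 → 6 ≤ d → d % 11 = 10 →
    -(d : ℤ) ∈ [(-120 : ℤ), -54, -32, -10, 12, 45, 144] := by decide +kernel

theorem exc_plus : ∀ d ∈ List.range 309, 8640 % d = 0 → 6 ≤ d → d % 11 = 5 → (d : ℤ) ∈ [(16 : ℤ), 27, 60, 192, -6, -72, -160, -270] := by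
  decide +kernel

theorem exc_minus : ∀ d ∈ List.range 309, 8640 % d = 0 → 6 ≤ d → d % 11 = 6 → -(d : ℤ) ∈ [(16 : ℤ), 27, 60, 192, -6, -72, -160, -270] := by
  decide +kernel

theorem cands_good : ∀ q ∈ cands, ∀ s ∈ [q.s1, q.s2, q.s3, q.s4, q.st], 8640 % s.natAbs = 0 ∧ 6 ≤ s.natAbs := by
  decide +kernel

theorem cands_split : ∀ q ∈ cands, ([q.s1, q.s2, q.s3, q.s4, q.st] = [-120, -54, 45, 144, 16]) ∨
    (deadList.any fun r => decide ([r.s1, r.s2, r.s3, r.s4, r.st] = [q.s1, q.s2, q.s3, q.s4, q.st])) = true ∨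
    (sixList.any fun r => decide ([r.s1, r.s2, r.s3, r.s4, r.st] = [q.s1, q.s2, q.s3, q.s4, q.st])) = true ∨
    [q.s1, q.s2, q.s3, q.s4, q.st] = [-54, -32, -32, 144, 27] := by
  decide +kernel

theorem cand_ext : ∀ {p q : Cand}, [p.s1, p.s2, p.s3, p.s4, p.st] = [q.s1, q.s2, q.s3, q.s4, q.st] → p = q
  | ⟨_, _, _, _, _⟩, ⟨_, _, _, _, _⟩, h => by simp only [List.cons.injEq, and_true] at h; obtain ⟨h1, h2, h3, h4, h5⟩ := h; subst h1 h2 h3 h4 h5; rfl

theorem five_orders : ∀ c ∈ divList 5, ∀ e ∈ [2, 4], 19008 % (c / 5 * e) = 0 → 19008 / (c / 5 * e) % 5 = 1 →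
    c ∈ fiveList ∧ (c % 2 = 1 → c = 45 ∧ e = 2 ∨ c = 135) := by
  decide +kernel

theorem mem_divList {k c : ℕ} (hk : 0 < k) (hkc : k ∣ c) (hc : c ∣ 8640) : c ∈ divList k := by
  obtain ⟨j, rfl⟩ := hkc
  have hpos : 0 < k * j := Nat.pos_of_dvd_of_pos hc (by norm_num)
  simp only [divList, List.mem_filter, List.mem_map, List.mem_range, decide_eq_true_eq]
  refine ⟨⟨j, ?_, rfl⟩, hpos, Nat.mod_eq_zero_of_dvd hc⟩
  have : j ≤ 8640 / k := (Nat.le_div_iff_mul_le hk).2 (by rw [mul_comm]; exact Nat.le_of_dvd (by norm_num) hc)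
  omega

theorem okAnd_eq {f g : Ok} {c d i : ℕ} {v : ℤ} (h1 : f c d i v = true) (h2 : g c d i v = true) :
    okAnd f g c d i v = true := by simp [okAnd, h1, h2]

namespace Dat

variable [Fact (Nat.Prime 11)] {M : Ideal AlgInt} [M.IsPrime] {S : Sylow 11 G} {x : G}
  {X Y : Finset (IrrCharacter G)} {sg : IrrCharacter G → ℤ} {ε : ℤ} {θ : IrrCharacter G}
  (D : Dat M S x X Y sg ε θ)

include D

theorem card_sylow_eleven : Nat.card (Sylow 11 G) = 1728 := D.num.sylow

theorem six_le {χ : IrrCharacter G} (h : χ ≠ trivIrr G) : 6 ≤ deg χ := by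
  haveI := D.simple
  by_contra hlt
  have hdeg : deg χ = ((charDegree (χ : G → ℂ) : ℕ) : ℤ) := rfl
  have h1 := card_sylow_le_of_character D.setup (by norm_num) (isCharacter_irr χ) (faithful_of_simple D.setup h)
    (irr_one χ).1 (by omega)
  rw [D.card_sylow_eleven] at h1
  omega

theorem sq_le {χ : IrrCharacter G} (h : χ ∈ X ∨ χ ∈ Y) : deg χ ≤ 308 := by
  classical
  have h1 := D.column_norm (g := (1 : G)) D.not_dvd_one
  have hc : Nat.card (cz (1 : G)) = 95040 := by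
    rw [← D.card]
    exact Nat.card_congr (Equiv.subtypeUnivEquiv fun g => mem_cz.2 (by rw [mul_one, one_mul]))
  rw [hc] at h1
  have hn : ∀ ψ : IrrCharacter G, ‖(ψ : G → ℂ) 1‖ ^ 2 = (deg ψ : ℝ) ^ 2 := fun ψ => by
    rw [apply_one_eq, Complex.norm_intCast, sq_abs]
  simp only [hn, show ((95040 : ℕ) : ℝ) = 95040 by norm_num] at h1
  have h0 : (0 : ℝ) ≤ ∑ χ ∈ X, (deg χ : ℝ) ^ 2 := sum_nonneg fun i _ => sq_nonneg _
  have h2 : (deg χ : ℝ) ^ 2 ≤ 95040 := by
    rcases h with h | h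
    · have := single_le_sum (f := fun ψ => (deg ψ : ℝ) ^ 2) (fun i _ => sq_nonneg _) h
      nlinarith [sq_nonneg (deg θ : ℝ)]
    · rw [D.blk.deg_agree h D.θY]
      nlinarith [sq_nonneg (deg θ : ℝ)]
  have h3 : deg χ ^ 2 ≤ 95040 := by exact_mod_cast h2
  nlinarith [deg_pos χ]

theorem ne_triv_of_mem {χ : IrrCharacter G} (h : χ ∈ Y) : χ ≠ trivIrr G :=
  fun e => D.blk.disj _ D.blk.triv (e ▸ h)

theorem signed_mem {χ : IrrCharacter G} (h : χ ∈ X) (h1 : χ ≠ trivIrr G) :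
    sg χ * deg χ ∈ [(-120 : ℤ), -54, -32, -10, 12, 45, 144] := by
  have hd : charDegree (χ : G → ℂ) ∣ 5 * (1 + 157 * 11) := D.blk.dvdX D.setup D.num h
  have h6 := D.six_le h1
  have h8 := D.sq_le (Or.inl h)
  have hc := D.blk.congX χ h
  have hdeg : deg χ = ((charDegree (χ : G → ℂ) : ℕ) : ℤ) := rfl
  have hd' : 8640 % charDegree (χ : G → ℂ) = 0 := Nat.mod_eq_zero_of_dvd (by simpa using hd)
  unfold Int.ModEq at hc
  rw [hdeg] at hc h6 h8 ⊢
  rcases D.blk.sign χ h with e | e <;> rw [e] at hc ⊢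
  · rw [one_mul]; exact signed_plus _ (List.mem_range.2 (by omega)) hd' (by omega) (by omega)
  · rw [neg_one_mul]; exact signed_minus _ (List.mem_range.2 (by omega)) hd' (by omega) (by omega)

theorem exc_mem : ε * deg θ ∈ [(16 : ℤ), 27, 60, 192, -6, -72, -160, -270] := by
  have hd : charDegree (θ : G → ℂ) ∣ 5 * (1 + 157 * 11) := D.blk.dvdY D.mod D.setup D.num D.θY
  have h6 := D.six_le (D.ne_triv_of_mem D.θY)
  have h8 := D.sq_le (Or.inr D.θY)
  have hc := D.blk.congY θ D.θY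
  have hdeg : deg θ = ((charDegree (θ : G → ℂ) : ℕ) : ℤ) := rfl
  have hd' : 8640 % charDegree (θ : G → ℂ) = 0 := Nat.mod_eq_zero_of_dvd (by simpa using hd)
  unfold Int.ModEq at hc
  rw [hdeg] at hc h6 h8 ⊢
  rcases D.eps_cases with e | e <;> rw [e] at hc ⊢
  · rw [one_mul]; exact exc_plus _ (List.mem_range.2 (by omega)) hd' (by omega) (by omega)
  · rw [neg_one_mul]; exact exc_minus _ (List.mem_range.2 (by omega)) hd' (by omega) (by omega)

/-- The signed degrees follow one of the listed patterns. -/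
theorem exists_frame : ∃ p ∈ cands, ∃ χa χb χe χf, Frame X sg ε θ p χa χb χe χf := by
  classical
  let r : IrrCharacter G → IrrCharacter G → Prop := fun χ χ' => sg χ * deg χ ≤ sg χ' * deg χ'
  haveI : Std.Total r := ⟨fun a b => le_total _ _⟩
  haveI : IsTrans (IrrCharacter G) r := ⟨fun a b c => le_trans⟩
  set l := (X.erase (trivIrr G)).toList.insertionSort r with hl
  have hperm : l.Perm (X.erase (trivIrr G)).toList := List.perm_insertionSort r _
  have hlen : l.length = 4 := by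
    rw [hperm.length_eq, length_toList, card_erase_of_mem D.blk.triv, D.blk.cardX]
  have hs : l.Pairwise r := List.pairwise_insertionSort r _
  obtain ⟨a, b, e, f, hlist⟩ : ∃ a b e f, l = [a, b, e, f] := by
    match l, hlen with
    | [a, b, e, f], _ => exact ⟨a, b, e, f, rfl⟩
  rw [hlist] at hs
  simp only [List.pairwise_cons, List.mem_cons, forall_eq_or_imp, List.not_mem_nil, false_implies, implies_true,
    and_true, List.Pairwise.nil, r] at hs
  have hmem : ∀ χ, χ ∈ [a, b, e, f] ↔ χ ≠ trivIrr G ∧ χ ∈ X := fun χ => by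
    rw [← hlist, hperm.mem_iff, mem_toList, mem_erase]
  have hsum : ∀ {α : Type} [AddCommMonoid α] (g : IrrCharacter G → α),
      ∑ χ ∈ X, g χ = g (trivIrr G) + g a + g b + g e + g f := by
    intro α _ g
    rw [← add_sum_erase X g D.blk.triv, ← sum_map_toList, ← (hperm.map g).sum_eq, hlist]
    simp only [List.map_cons, List.map_nil, List.sum_cons, List.sum_nil, add_zero, add_assoc]
  have ha := (hmem a).1 (by simp)
  have hb := (hmem b).1 (by simp)
  have he := (hmem e).1 (by simp)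
  have hf := (hmem f).1 (by simp)
  have hrel : ε * deg θ = 1 + sg a * deg a + sg b * deg b + sg e * deg e + sg f * deg f := by
    rw [D.blk.degY D.θY, hsum, D.blk.sgTriv, deg_trivIrr, mul_one]
  have hnorm : 1 + (sg a * deg a) * (sg a * deg a) + (sg b * deg b) * (sg b * deg b) +
      (sg e * deg e) * (sg e * deg e) + (sg f * deg f) * (sg f * deg f) + 2 * ((ε * deg θ) * (ε * deg θ)) ≤ 95040 := by
    have hsq : ∀ χ ∈ X, sg χ * deg χ * (sg χ * deg χ) = deg χ * deg χ := fun χ hχ => by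
      rcases D.blk.sign χ hχ with h | h <;> rw [h] <;> ring
    rw [hsq a ha.2, hsq b hb.2, hsq e he.2, hsq f hf.2, show ε * deg θ * (ε * deg θ) = deg θ * deg θ by
      rcases D.eps_cases with h | h <;> rw [h] <;> ring]
    have h1 := D.column_norm (g := (1 : G)) D.not_dvd_one
    have hc : Nat.card (cz (1 : G)) = 95040 := by
      rw [← D.card]
      exact Nat.card_congr (Equiv.subtypeUnivEquiv fun g => mem_cz.2 (by rw [mul_one, one_mul]))
    rw [hc, hsum] at h1
    simp only [apply_one_eq, Complex.norm_intCast, sq_abs, deg_trivIrr] at h1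
    push_cast at h1
    have h2 : ((1 + deg a * deg a + deg b * deg b + deg e * deg e + deg f * deg f + 2 * (deg θ * deg θ) : ℤ) : ℝ) ≤
        ((95040 : ℤ) : ℝ) := by push_cast; linarith
    exact_mod_cast h2
  have hq := cands_complete _ (D.signed_mem ha.2 ha.1) _ (D.signed_mem hb.2 hb.1) _ (D.signed_mem he.2 he.1)
    _ (D.signed_mem hf.2 hf.1) hs.1.1 hs.2.1.1 hs.2.2 _ D.exc_mem hrel hnorm
  rw [List.any_eq_true] at hq
  obtain ⟨q, hq, hq'⟩ := hq
  simp only [decide_eq_true_eq] at hq'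
  refine ⟨q, hq, a, b, e, f, ⟨hsum, fun χ hχ => ?_, ha.2, hb.2, he.2, hf.2, hq'.1.symm, hq'.2.1.symm, hq'.2.2.1.symm,
    hq'.2.2.2.1.symm, hq'.2.2.2.2.symm, cands_good q hq⟩⟩
  by_cases h : χ = trivIrr G
  · exact Or.inl h
  · have := (hmem χ).2 ⟨h, hχ⟩
    simp only [List.mem_cons, List.not_mem_nil, or_false] at this
    exact Or.inr this

theorem exists_z : ∃ z : G, orderOf z = 2 ∧ Nat.card (cz z) ∈ czList := by
  haveI : Fact (Nat.Prime 2) := ⟨Nat.prime_two⟩
  obtain ⟨T⟩ : Nonempty (Sylow 2 G) := inferInstance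
  have hfac : Nat.factorization 95040 2 = 6 := le_antisymm (by
      by_contra h
      have := (Nat.prime_two.pow_dvd_iff_le_factorization (n := 95040) (by norm_num)).2 (show 7 ≤ _ by omega)
      norm_num at this)
    ((Nat.prime_two.pow_dvd_iff_le_factorization (by norm_num)).1 (by norm_num))
  have hT : Nat.card (T : Subgroup G) = 64 := by
    rw [Sylow.card_eq_multiplicity, D.card, hfac]
    norm_num
  haveI : Nontrivial (T : Subgroup G) := Finite.one_lt_card_iff_nontrivial.1 (by rw [hT]; norm_num)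
  haveI := T.2.center_nontrivial
  have h2 : 2 ∣ Nat.card (Subgroup.center (T : Subgroup G)) := by
    obtain ⟨n, hn⟩ := IsPGroup.iff_card.1 (T.2.to_subgroup (Subgroup.center (T : Subgroup G)))
    have h1 : 1 < Nat.card (Subgroup.center (T : Subgroup G)) := Finite.one_lt_card_iff_nontrivial.2 inferInstance
    rw [hn] at h1 ⊢
    exact dvd_pow_self 2 (by rintro rfl; simp at h1)
  obtain ⟨c, hc⟩ := exists_prime_orderOf_dvd_card' (G := Subgroup.center (T : Subgroup G)) 2 h2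
  rw [← Subgroup.orderOf_coe, ← Subgroup.orderOf_coe] at hc
  refine ⟨_, hc, ?_⟩
  have h64 : 64 ∣ Nat.card (cz ((c : (T : Subgroup G)) : G)) := hT ▸ Subgroup.card_dvd_of_le fun s hs =>
    mem_cz.2 (congrArg Subtype.val (Subgroup.mem_center_iff.1 c.2 ⟨s, hs⟩))
  have h8 := D.cz_dvd_8640 (g := ((c : (T : Subgroup G)) : G)) (by rw [hc]; norm_num)
    (fun h => by rw [h, orderOf_one] at hc; norm_num at hc)
  have := mem_divList (k := 64) (by norm_num) h64 h8
  revert this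
  generalize Nat.card (cz ((c : (T : Subgroup G)) : G)) = m
  intro hm
  have hall : ∀ m ∈ divList 64, m ∈ czList := by decide +kernel
  exact hall m hm

/-- The centralizer of an element of order five. -/
theorem five_data {y : G} (hy : orderOf y = 5) :
    Nat.card (cz y) ∈ fiveList ∧ (Nat.card (cz y) % 2 = 1 → Nat.card (cz y) = 135 ∨
      Nat.card (cz y) = 45 ∧ ∀ M5 : Ideal AlgInt, ∀ [M5.IsPrime], IsPModular 5 M5 →
        ∃ (_ : Fact (Nat.Prime 5)) (S5 : Sylow 5 G) (X5 Y5 : Finset (IrrCharacter G))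
          (sg5 : IrrCharacter G → ℤ) (ε5 : ℤ), Blk M5 S5 2 2 X5 Y5 sg5 ε5) := by
  haveI := D.simple
  haveI : Fact (Nat.Prime 5) := ⟨by norm_num⟩
  have hP : Nat.card (Subgroup.zpowers y) = 5 ^ (Nat.card G).factorization 5 := by
    rw [Nat.card_zpowers, hy, D.card, show (95040 : ℕ) = 5 * 19008 by norm_num,
      Nat.factorization_mul (by norm_num) (by norm_num)]
    simp [Nat.factorization_eq_zero_of_not_dvd (show ¬ 5 ∣ 19008 by norm_num), Nat.prime_five]
  set S5 := Sylow.ofCard (Subgroup.zpowers y) hP with hS5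
  have hyS : y ∈ (S5 : Subgroup G) := Subgroup.mem_zpowers y
  have hS : Nat.card (S5 : Subgroup G) = 5 := by
    show Nat.card (Subgroup.zpowers y) = 5
    rw [Nat.card_zpowers, hy]
  have h : Setup G 5 S5 := setup_of_simple (fun hc => not_comm D.card (by
    haveI := hc
    exact ⟨⟨fun a b => (IsCyclic.commGroup (α := G)).mul_comm a b⟩⟩)) hS
  have hy1 : y ≠ 1 := fun h => by rw [h, orderOf_one] at hy; norm_num at hy
  obtain ⟨n, hn⟩ : ∃ n, Nat.card (Sylow 5 G) = 1 + n * 5 := by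
    have := card_sylow_modEq_one 5 G
    exact ⟨Nat.card (Sylow 5 G) / 5, by unfold Nat.ModEq at this; omega⟩
  obtain ⟨c, e, num⟩ := exists_num h hn
  obtain ⟨M5, hM5⟩ := exists_isPModular (p := 5) (by norm_num)
  haveI := hM5.2.1.isPrime
  obtain ⟨s, X5, Y5, sg5, ε5, B⟩ := exists_blk hM5 h num
  have hes := B.hes
  have he : e ∈ [2, 4] := by
    have h2 := num.epos
    have h4 : e ≤ 4 := by
      by_contra hh
      rcases Nat.eq_zero_or_pos s with rfl | hs
      · omega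
      · nlinarith
    interval_cases e <;> simp <;> omega
  have hcard : Nat.card (cz y) = 5 * c := by
    show Nat.card (Subgroup.centralizer ({y} : Set G)) = 5 * c
    rw [centralizer_singleton h hyS hy1, num.cardC]
  have hG := num.cardG
  rw [D.card] at hG
  have h19 : 19008 = c * e * (1 + n * 5) := by nlinarith
  have hdvd := mem_divList (k := 5) (by norm_num) (Dvd.intro c hcard.symm)
    (D.cz_dvd_8640 (g := y) (by rw [hy]; norm_num) hy1)
  have hdiv : 19008 / (c * e) = 1 + n * 5 := by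
    rw [h19, Nat.mul_div_cancel_left _ (Nat.mul_pos num.cpos (by have := num.epos; omega))]
  obtain ⟨hl, hodd⟩ := five_orders _ hdvd e he
    (by rw [hcard, Nat.mul_div_cancel_left _ (by norm_num)]; exact Nat.mod_eq_zero_of_dvd (h19 ▸ Dvd.intro _ rfl))
    (by rw [hcard, Nat.mul_div_cancel_left _ (by norm_num), hdiv]; omega)
  refine ⟨hl, fun ho => ?_⟩
  rcases hodd ho with ⟨h45, rfl⟩ | h135
  · refine Or.inr ⟨h45, fun M' _ hM' => ?_⟩
    obtain ⟨s', X', Y', sg', ε', B'⟩ := exists_blk hM' h num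
    obtain rfl : s' = 2 := by have := B'.hes; omega
    exact ⟨inferInstance, S5, X', Y', sg', ε', B'⟩
  · exact Or.inl h135

end Dat

theorem six_forms : ∀ q ∈ sixList, [q.s1, q.s2, q.s3, q.s4, q.st] = [-10, 12, 12, 45, 60] ∨
    (∀ i : Fin 4, let l := [q.s1.natAbs, q.s2.natAbs, q.s3.natAbs, q.s4.natAbs]
      l.getD i 0 % 5 = 0 ∨ (q.st.natAbs ≠ l.getD i 0 ∧ ∀ j : Fin 4, l.getD j 0 = l.getD i 0 → j = i)) ∧
    q.st.natAbs ∉ [q.s1.natAbs, q.s2.natAbs, q.s3.natAbs, q.s4.natAbs] ∧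
    (q.s4 = 45 ∧ q.s1 = -10 ∧ q.s2 = -10 → q.s3 = -10 ∧ q.st = 16) := by
  decide +kernel

theorem cu_sub : ∀ c ∈ divList 10, 120 % c = 0 → c ∈ [10, 20, 30, 40, 60, 120] := by decide +kernel

theorem odd_five : ∀ c ∈ fiveList, c ∈ divList 5 := by decide +kernel

theorem sgnB : Cand.sgn (-54) = -1 ∧ Cand.sgn (-32) = -1 ∧ Cand.sgn 144 = 1 ∧ Cand.sgn 27 = 1 :=
  ⟨rfl, rfl, rfl, rfl⟩

namespace Frame

variable [Fact (Nat.Prime 11)] {M : Ideal AlgInt} [M.IsPrime] {S : Sylow 11 G} {x : G}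
  {X Y : Finset (IrrCharacter G)} {sg : IrrCharacter G → ℤ} {ε : ℤ} {θ : IrrCharacter G}
  {p : Cand} {χa χb χe χf : IrrCharacter G}
  (F : Frame X sg ε θ p χa χb χe χf) (D : Dat M S x X Y sg ε θ)

include F D

theorem int_at_invol (χ : IrrCharacter G) {g : G} (hg : orderOf g = 2) :
    ∃ v : ℤ, (χ : G → ℂ) g = v ∧ okDeg 4 0 (charDegree (χ : G → ℂ)) 0 v = true := by
  have hgg : g * g = 1 := by rw [← pow_two, ← hg]; exact pow_orderOf_eq_one g
  obtain ⟨v, hv, h4, -, -⟩ := CfsgLib.InvolValues.invol_mod_four D.setup.perfect (isCharacter_irr χ) hgg (irr_one χ).1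
  refine ⟨v, hv, ?_⟩
  simp only [okDeg, decide_eq_true_eq]
  omega

theorem ok_five {χ : IrrCharacter G} {s : ℤ} (hs : (s.natAbs : ℤ) = deg χ) {g : G} (hg : ¬ 5 ∣ orderOf g) {v : ℤ}
    (hv : (χ : G → ℂ) g = v) (i : ℕ) : okFive (Nat.card (cz g)) s.natAbs i v = true := by
  unfold okFive
  by_cases h : Nat.card (cz g) % 5 = 0 ∧ s.natAbs % 5 = 0
  · have h5 : (5 : ℤ) ∣ deg χ := hs ▸ by exact_mod_cast Nat.dvd_of_mod_eq_zero h.2
    simp [h.1, h.2, Int.emod_eq_zero_of_dvd (D.five_dvd_value h5 hg (Nat.dvd_of_mod_eq_zero h.1) hv)]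
  · simp only [Bool.or_eq_true, Bool.not_eq_true', Bool.and_eq_false_iff, decide_eq_false_iff_not]
    exact Or.inl (not_and_or.1 h)

theorem ok_invol {χ : IrrCharacter G} {s : ℤ} (hs : (s.natAbs : ℤ) = deg χ) {g : G} (hg : orderOf g = 2) {v : ℤ}
    (hv : (χ : G → ℂ) g = v) (i : ℕ) : okAnd (okDeg 4) okFive (Nat.card (cz g)) s.natAbs i v = true := by
  refine okAnd_eq ?_ (F.ok_five D hs (by rw [hg]; norm_num) hv i)
  obtain ⟨v', hv', h⟩ := F.int_at_invol D χ hg
  obtain rfl : v' = v := by exact_mod_cast hv'.symm.trans hv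
  have hd : s.natAbs = charDegree (χ : G → ℂ) := by exact_mod_cast hs
  rw [hd]
  exact h

/-- The search at an involution. -/
theorem invol_search {g : G} (hg : orderOf g = 2) {cs : List ℕ} {post good : ℕ → V → Bool}
    (h : chk p cs (okAnd (okDeg 4) okFive) post good = true) (hc : Nat.card (cz g) ∈ cs)
    (hpost : ∀ a b e f t : ℤ, (χa : G → ℂ) g = a → (χb : G → ℂ) g = b → (χe : G → ℂ) g = e →
      (χf : G → ℂ) g = f → (θ : G → ℂ) g = t → post (Nat.card (cz g)) (a, b, e, f, t) = true) :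
    ∃ a b e f t : ℤ, (χa : G → ℂ) g = a ∧ (χb : G → ℂ) g = b ∧ (χe : G → ℂ) g = e ∧ (χf : G → ℂ) g = f ∧
      (θ : G → ℂ) g = t ∧ good (Nat.card (cz g)) (a, b, e, f, t) = true := by
  obtain ⟨a, ha, -⟩ := F.int_at_invol D χa hg
  obtain ⟨b, hb, -⟩ := F.int_at_invol D χb hg
  obtain ⟨e, he, -⟩ := F.int_at_invol D χe hg
  obtain ⟨f, hf, -⟩ := F.int_at_invol D χf hg
  obtain ⟨t, ht, -⟩ := F.int_at_invol D θ hg
  have h11 : ¬ 11 ∣ orderOf g := by rw [hg]; norm_num
  have hg1 : g ≠ 1 := fun h => by rw [h, orderOf_one] at hg; norm_num at hg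
  exact ⟨a, b, e, f, t, ha, hb, he, hf, ht, chk_sound h hc (F.facts D h11 hg1 ha hb he hf ht)
    (F.ok_invol D (F.entryA D).2.2.1 hg ha 0) (F.ok_invol D (F.entryB D).2.2.1 hg hb 1)
    (F.ok_invol D (F.entryE D).2.2.1 hg he 2) (F.ok_invol D (F.entryF D).2.2.1 hg hf 3)
    (F.ok_invol D (F.entry_T D).2.2.1 hg ht 4) (hpost a b e f t ha hb he hf ht)⟩

theorem not_dead (hp : p ∈ deadList) : False := by
  obtain ⟨z, hz, hzc⟩ := D.exists_z
  obtain ⟨a, b, e, f, t, -, -, -, -, -, h⟩ := F.invol_search D hz (List.all_eq_true.1 kill_dead p hp) hzc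
    fun _ _ _ _ _ ha hb he hf ht => F.invol D hz ha hb he hf ht
  simp [goodNone] at h

theorem ok_y {χ : IrrCharacter G} {s : ℤ} (hs : (s.natAbs : ℤ) = deg χ) {y : G} (hy : orderOf y = 5) {v : ℤ}
    (hv : (χ : G → ℂ) y = v) (c i : ℕ) : okAnd (okDeg 5) okZero c s.natAbs i v = true := by
  refine okAnd_eq ?_ ?_
  · simp only [okDeg, decide_eq_true_eq]
    have h1 : (χ : G → ℂ) 1 = ((s.natAbs : ℤ) : ℂ) := by rw [apply_one_eq, hs]
    have := CfsgLib.InvolValues.int_value_congr (p := 5) (by norm_num) (isCharacter_irr χ)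
      (show y ^ 5 = 1 by rw [← hy]; exact pow_orderOf_eq_one y) hv h1
    omega
  · unfold okZero
    by_cases h : s.natAbs % 5 = 0
    · have h5 : (5 : ℤ) ∣ deg χ := hs ▸ by exact_mod_cast Nat.dvd_of_mod_eq_zero h
      have h0 := D.five_zero h5 (g := y) (by rw [hy])
      rw [hv] at h0
      simp [h, show v = 0 by exact_mod_cast h0]
    · simp [h]

/-- The candidate `candC` contradicts the principal block at five. -/
theorem not_C (h1 : p.s1 = -10) (h2 : p.s2 = -10) (h3 : p.s3 = -10) (h4 : p.s4 = 45) (h5 : p.st = 16) {y : G}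
    (hblk : ∀ M5 : Ideal AlgInt, ∀ [M5.IsPrime], IsPModular 5 M5 →
        ∃ (_ : Fact (Nat.Prime 5)) (S5 : Sylow 5 G) (X5 Y5 : Finset (IrrCharacter G))
          (sg5 : IrrCharacter G → ℤ) (ε5 : ℤ), Blk M5 S5 2 2 X5 Y5 sg5 ε5) : False := by
  classical
  haveI : Fact (Nat.Prime 5) := ⟨by norm_num⟩
  obtain ⟨M5, hM5⟩ := exists_isPModular (p := 5) (by norm_num)
  haveI := hM5.2.1.isPrime
  obtain ⟨_, S5, X5, Y5, sg5, ε5, B⟩ := hblk M5 hM5
  have hdeg : ∀ φ : IrrCharacter G, φ ≠ trivIrr G → (11 : ℤ) ∣ deg φ ∨ deg φ = 10 ∨ deg φ = 45 ∨ deg φ = 16 := by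
    intro φ hφ
    by_cases hX : φ ∈ X
    · have ha := (F.entryA D).2.2.1
      have hb := (F.entryB D).2.2.1
      have he := (F.entryE D).2.2.1
      have hf := (F.entryF D).2.2.1
      rw [h1] at ha; rw [h2] at hb; rw [h3] at he; rw [h4] at hf
      rcases F.cases φ hX with e | e | e | e | e
      · exact absurd e hφ
      · rw [e]; omega
      · rw [e]; omega
      · rw [e]; omega
      · rw [e]; omega
    · by_cases hY : φ ∈ Y
      · have ht := (F.entry_T D).2.2.1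
        rw [h5] at ht
        have := D.blk.deg_agree hY D.θY
        omega
      · exact Or.inl (by exact_mod_cast (D.outside_zero hX hY).2)
  obtain ⟨χ, hX5⟩ : ∃ χ, X5.erase (trivIrr G) = {χ} := card_eq_one.1 (by rw [card_erase_of_mem B.triv, B.cardX])
  have hχ : χ ∈ X5 := mem_of_mem_erase (hX5 ▸ mem_singleton_self χ)
  have hχ1 : χ ≠ trivIrr G := (mem_erase.1 (hX5 ▸ mem_singleton_self χ)).1
  obtain ⟨φ, hφ⟩ := card_pos.1 (B.cardY ▸ two_pos : 0 < Y5.card)
  have hr := B.degY hφ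
  rw [← add_sum_erase X5 _ B.triv, hX5, sum_singleton, B.sgTriv, deg_trivIrr, mul_one] at hr
  have hφ11 : (11 : ℤ) ∣ deg φ := by
    have hc := B.congY φ hφ
    unfold Int.ModEq at hc
    rcases hdeg φ (fun e => B.disj _ B.triv (e ▸ hφ)) with h | h | h | h
    · exact h
    all_goals (rw [h] at hc; rcases B.signY with e | e <;> rw [e] at hc <;> norm_num at hc)
  have hc := B.congX χ hχ
  unfold Int.ModEq at hc
  have h11 : (11 : ℤ) ∣ 1 + sg5 χ * deg χ := hr ▸ Dvd.dvd.mul_left hφ11 ε5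
  rcases hdeg χ hχ1 with h | h | h | h
  · have := Int.dvd_sub h11 (Dvd.dvd.mul_left h (sg5 χ))
    norm_num at this
  all_goals (rw [h] at hc h11; rcases B.sign χ hχ with e | e <;> rw [e] at hc h11 <;> revert hc h11 <;> norm_num)

theorem uniq_int {χ : IrrCharacter G} (hχ : χ ∈ X) {s : ℤ} (hs : (s.natAbs : ℤ) = deg χ) (hA : s.natAbs = p.s1.natAbs → χ = χa)
    (hB : s.natAbs = p.s2.natAbs → χ = χb) (hE : s.natAbs = p.s3.natAbs → χ = χe)
    (hF : s.natAbs = p.s4.natAbs → χ = χf) (hT : p.st.natAbs ≠ s.natAbs) (h6 : s.natAbs ≠ 1) (g : G) :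
    ∃ v : ℤ, (χ : G → ℂ) g = v := by
  have h1 : deg χ ≠ 1 := by
    intro h
    have := (F.entryA D).2.2.1
    have h' : s.natAbs = 1 := by exact_mod_cast hs.trans h
    rcases F.cases χ hχ with e | e | e | e | e
    · exact h6 (by omega)
    · exact (F.entryA D).2.1 (e ▸ h)
    · exact (F.entryB D).2.1 (e ▸ h)
    · exact (F.entryE D).2.1 (e ▸ h)
    · exact (F.entryF D).2.1 (e ▸ h)
  refine D.int_of_unique hχ (fun χ' hχ' hd => ?_) (fun h => hT ?_) g
  · rcases F.cases χ' hχ' with e | e | e | e | e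
    · exact absurd (hd.symm.trans (e ▸ deg_trivIrr)) h1
    · have := (F.entryA D).2.2.1; rw [e] at hd ⊢; exact (hA (by omega)).symm
    · have := (F.entryB D).2.2.1; rw [e] at hd ⊢; exact (hB (by omega)).symm
    · have := (F.entryE D).2.2.1; rw [e] at hd ⊢; exact (hE (by omega)).symm
    · have := (F.entryF D).2.2.1; rw [e] at hd ⊢; exact (hF (by omega)).symm
  · have := (F.entry_T D).2.2.1
    omega

theorem exc_int (h : p.st.natAbs ∉ [p.s1.natAbs, p.s2.natAbs, p.s3.natAbs, p.s4.natAbs]) {g : G}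
    (hg : ¬ 11 ∣ orderOf g) : ∃ v : ℤ, (θ : G → ℂ) g = v := by
  refine D.int_exc (fun χ hχ hd => ?_) hg
  simp only [List.mem_cons, List.not_mem_nil, or_false, not_or] at h
  have ht := (F.entry_T D).2.2.1
  rcases F.cases χ hχ with e | e | e | e | e <;> rw [e] at hd
  · rw [deg_trivIrr] at hd; exact (F.entry_T D).2.1 hd.symm
  · have := (F.entryA D).2.2.1; exact h.1 (by omega)
  · have := (F.entryB D).2.2.1; exact h.2.1 (by omega)
  · have := (F.entryE D).2.2.1; exact h.2.2.1 (by omega)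
  · have := (F.entryF D).2.2.1; exact h.2.2.2 (by omega)

/-- An integer-valued element of order five with an odd centralizer only fits `candC`. -/
theorem odd_search (hp : p ∈ sixList) {y : G} (hy : orderOf y = 5) (hc : Nat.card (cz y) ∈ [45, 135]) {a b e f t : ℤ}
    (ha : (χa : G → ℂ) y = a) (hb : (χb : G → ℂ) y = b) (he : (χe : G → ℂ) y = e) (hf : (χf : G → ℂ) y = f)
    (ht : (θ : G → ℂ) y = t) : p.s4 = 45 ∧ p.s1 = -10 ∧ p.s2 = -10 ∧ Nat.card (cz y) = 45 := by
  have h11 : ¬ 11 ∣ orderOf y := by rw [hy]; norm_num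
  have hy1 : y ≠ 1 := fun h => by rw [h, orderOf_one] at hy; norm_num at hy
  have h := chk_sound (List.all_eq_true.1 kill_six_odd p hp) hc (F.facts D h11 hy1 ha hb he hf ht)
    (F.ok_y D (F.entryA D).2.2.1 hy ha _ 0) (F.ok_y D (F.entryB D).2.2.1 hy hb _ 1)
    (F.ok_y D (F.entryE D).2.2.1 hy he _ 2) (F.ok_y D (F.entryF D).2.2.1 hy hf _ 3)
    (F.ok_y D (F.entry_T D).2.2.1 hy ht _ 4) rfl
  simp only [Bool.and_eq_true, decide_eq_true_eq] at h
  exact h.1

theorem not_six (hp : p ∈ sixList) : False := by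
  classical
  haveI : Fact (Nat.Prime 5) := ⟨by norm_num⟩
  obtain ⟨y, hy⟩ := exists_prime_orderOf_dvd_card' (G := G) 5 (by rw [D.card]; norm_num)
  have h11 : ¬ 11 ∣ orderOf y := by rw [hy]; norm_num
  have hy1 : y ≠ 1 := fun h => by rw [h, orderOf_one] at hy; norm_num at hy
  obtain ⟨-, hodd⟩ := D.five_data hy
  rcases Nat.mod_two_eq_zero_or_one (Nat.card (cz y)) with h0 | ho
  · haveI : Fact (Nat.Prime 2) := ⟨Nat.prime_two⟩
    obtain ⟨⟨u, hu⟩, hu2⟩ := exists_prime_orderOf_dvd_card' (G := cz y) 2 (Nat.dvd_of_mod_eq_zero h0)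
    rw [Subgroup.orderOf_mk] at hu2
    have h5 : 5 ∣ Nat.card (cz u) := hy ▸ Subgroup.orderOf_dvd_natCard _ (mem_cz.2 (mem_cz.1 hu).symm)
    have h2 : 2 ∣ Nat.card (cz u) := hu2 ▸ Subgroup.orderOf_dvd_natCard _ (mem_cz.2 rfl)
    obtain ⟨a, b, e, f, t, -, -, -, -, -, h⟩ := F.invol_search D hu2 (List.all_eq_true.1 kill_six p hp)
      (mem_divList (by norm_num) (Nat.Coprime.mul_dvd_of_dvd_of_dvd (by norm_num : Nat.Coprime 2 5) h2 h5)
        (D.cz_dvd_8640 (by rw [hu2]; norm_num) (fun h => by rw [h, orderOf_one] at hu2; norm_num at hu2)))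
      fun _ _ _ _ _ ha hb he hf ht => F.invol D hu2 ha hb he hf ht
    simp [goodNone] at h
  have hc : Nat.card (cz y) ∈ [45, 135] := by
    rcases hodd ho with h | ⟨h, -⟩ <;> rw [h] <;> decide
  rcases six_forms p hp with hD | ⟨hu, hT, hC⟩
  · simp only [List.cons.injEq, and_true] at hD
    obtain ⟨d1, d2, d3, d4, d5⟩ := hD
    have hz0 : ∀ {χ : IrrCharacter G} {s : ℤ}, (s.natAbs : ℤ) = deg χ → s.natAbs % 5 = 0 → (χ : G → ℂ) y = 0 :=
      fun {χ} {s} hs h => D.five_zero (hs ▸ by exact_mod_cast Nat.dvd_of_mod_eq_zero h) (by rw [hy])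
    have za := hz0 (F.entryA D).2.2.1 (by rw [d1]; norm_num)
    have zf := hz0 (F.entryF D).2.2.1 (by rw [d4]; norm_num)
    have zt := hz0 (F.entry_T D).2.2.1 (by rw [d5]; norm_num)
    have hsum : (χb : G → ℂ) y + (χe : G → ℂ) y = -1 := by
      have h := F.rel' D h11
      rw [za, zf, zt, d2, d3] at h
      simp [Cand.sgn] at h
      linear_combination -h
    obtain ⟨z, hz, hzc⟩ := D.exists_z
    have hchk : chk p czList (okAnd (okDeg 4) okFive) (postInvol p) goodD = true := by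
      rw [show p = candD from cand_ext (by rw [d1, d2, d3, d4, d5]; rfl)]; exact candD_invol
    obtain ⟨a, b, e, f, t, ha, hb, he, hf, ht, hgood⟩ := F.invol_search D hz hchk hzc
      fun _ _ _ _ _ ha hb he hf ht => F.invol D hz ha hb he hf ht
    obtain ⟨m, hm, -⟩ := F.cross_count D h11 (by rw [hz]; norm_num : ¬ 11 ∣ orderOf z) hy1
    have hm' : (m : ℂ) * ((Nat.card (cz y) : ℂ) * (Nat.card (cz z) : ℂ)) =
        8640 + 720 * ((χb : G → ℂ) y * (b : ℂ) + (χe : G → ℂ) y * (e : ℂ)) := by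
      rw [← hm, Frame.qC, za, zf, zt, hb, he, d1, d2, d3, d4, d5]
      norm_num [Cand.sgn, Cand.K]
      ring
    simp only [goodD, comp, decide_eq_true_eq] at hgood
    have key : ∀ σ : ℤ, σ = 1 ∨ σ = -1 → b = -4 * σ → e = 4 * σ → False := by
      intro σ hσ hbσ heσ
      have hdiff : ∃ r : ℚ, (χb : G → ℂ) y = (r : ℂ) := by
        refine ⟨((σ : ℚ) * (8640 - (m : ℚ) * ((Nat.card (cz y) : ℚ) * (Nat.card (cz z) : ℚ))) / 2880 - 1) / 2, ?_⟩
        have hs2 : (σ : ℂ) * (σ : ℂ) = 1 := by rcases hσ with h | h <;> rw [h] <;> norm_num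
        rw [hbσ, heσ, show (χe : G → ℂ) y = -1 - (χb : G → ℂ) y by linear_combination hsum] at hm'
        push_cast at hm' ⊢
        linear_combination ((σ : ℂ) / 5760) * hm' + (-1/2 - (χb : G → ℂ) y) * hs2
      obtain ⟨r, hr⟩ := hdiff
      obtain ⟨v, -, hv⟩ := CfsgLib.Char.exists_int_of_isIntegral_rat r
        (CfsgLib.Char.IsCharacter.isIntegral (isCharacter_irr χb) y) hr
      have hbv : (χb : G → ℂ) y = ((v : ℤ) : ℂ) := by rw [hr, hv]; push_cast; rfl
      have hev : (χe : G → ℂ) y = (((-1 - v) : ℤ) : ℂ) := by push_cast; rw [← hbv]; linear_combination hsum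
      have := F.odd_search D hp hy hc (a := 0) (b := v) (e := -1 - v) (f := 0) (t := 0)
        (by simpa using za) hbv hev (by simpa using zf) (by simpa using zt)
      omega
    rcases hgood with ⟨h1, h2⟩ | ⟨h1, h2⟩ | ⟨h1, h2, h3⟩
    · exact key 1 (Or.inl rfl) (by omega) (by omega)
    · exact key (-1) (Or.inr rfl) (by omega) (by omega)
    · rw [h1, h2] at hm'
      simp only [Int.cast_zero, mul_zero, add_zero] at hm'
      have h45 : 45 ≤ Nat.card (cz y) := by
        simp only [List.mem_cons, List.not_mem_nil, or_false] at hc; omega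
      have hmul : m * (Nat.card (cz y) * Nat.card (cz z)) = 8640 := by exact_mod_cast hm'
      rcases Nat.eq_zero_or_pos m with rfl | hm0
      · simp at hmul
      · have h3' : 45 * 576 ≤ Nat.card (cz y) * Nat.card (cz z) := Nat.mul_le_mul h45 h3
        have := Nat.le_mul_of_pos_left (Nat.card (cz y) * Nat.card (cz z)) hm0
        omega
  · have hint : ∀ {χ : IrrCharacter G}, χ ∈ X → ∀ {s : ℤ}, (s.natAbs : ℤ) = deg χ →
        s.natAbs ≠ 1 → (s.natAbs % 5 = 0 ∨ (s.natAbs = p.s1.natAbs → χ = χa) ∧ (s.natAbs = p.s2.natAbs → χ = χb) ∧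
          (s.natAbs = p.s3.natAbs → χ = χe) ∧ (s.natAbs = p.s4.natAbs → χ = χf) ∧ p.st.natAbs ≠ s.natAbs) →
        ∃ v : ℤ, (χ : G → ℂ) y = v := by
      intro χ hχ s hs h6 h
      rcases h with h | ⟨hA, hB, hE, hF, hT'⟩
      · exact ⟨0, by rw [Int.cast_zero]; exact D.five_zero (hs ▸ by exact_mod_cast Nat.dvd_of_mod_eq_zero h) (by rw [hy])⟩
      · exact F.uniq_int D hχ hs hA hB hE hF hT' h6 y
    obtain ⟨a, ha⟩ := hint F.memA (F.entryA D).2.2.1 (by have := (F.good p.s1 (by simp)).2; omega) ((hu 0).imp id fun ⟨h1, h2⟩ => ⟨fun _ => rfl,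
      fun h => absurd (h2 1 h.symm) (by decide), fun h => absurd (h2 2 h.symm) (by decide),
      fun h => absurd (h2 3 h.symm) (by decide), h1⟩)
    obtain ⟨b, hb⟩ := hint F.memB (F.entryB D).2.2.1 (by have := (F.good p.s2 (by simp)).2; omega) ((hu 1).imp id fun ⟨h1, h2⟩ => ⟨fun h => absurd (h2 0 h.symm) (by decide),
      fun _ => rfl, fun h => absurd (h2 2 h.symm) (by decide), fun h => absurd (h2 3 h.symm) (by decide), h1⟩)
    obtain ⟨e, he⟩ := hint F.memE (F.entryE D).2.2.1 (by have := (F.good p.s3 (by simp)).2; omega) ((hu 2).imp id fun ⟨h1, h2⟩ => ⟨fun h => absurd (h2 0 h.symm) (by decide),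
      fun h => absurd (h2 1 h.symm) (by decide), fun _ => rfl, fun h => absurd (h2 3 h.symm) (by decide), h1⟩)
    obtain ⟨f, hf⟩ := hint F.memF (F.entryF D).2.2.1 (by have := (F.good p.s4 (by simp)).2; omega) ((hu 3).imp id fun ⟨h1, h2⟩ => ⟨fun h => absurd (h2 0 h.symm) (by decide),
      fun h => absurd (h2 1 h.symm) (by decide), fun h => absurd (h2 2 h.symm) (by decide), fun _ => rfl, h1⟩)
    obtain ⟨t, ht⟩ := F.exc_int D hT h11
    obtain ⟨h4, h1, h2, h45⟩ := F.odd_search D hp hy hc ha hb he hf ht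
    obtain ⟨h3, h5⟩ := hC ⟨h4, h1, h2⟩
    rcases hodd ho with h | ⟨-, hblk⟩
    · omega
    · exact F.not_C D h1 h2 h3 h4 h5 (y := y) hblk

/-- The facts for `candB` with the sum of the two equal degrees. -/
theorem lin_facts (hB : p = candB) {g z : G} (hg : ¬ 11 ∣ orderOf g) (hg1 : g ≠ 1) (hz : ¬ 11 ∣ orderOf z)
    {v w t zv zs zw zt : ℤ} (hv : (χf : G → ℂ) g = v) (hw : (χa : G → ℂ) g = w) (ht : (θ : G → ℂ) g = t)
    (hzv : (χf : G → ℂ) z = zv) (hzb : (χb : G → ℂ) z = zs) (hze : (χe : G → ℂ) z = zs)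
    (hzw : (χa : G → ℂ) z = zw) (hzt : (θ : G → ℂ) z = zt) :
    LinFacts (Nat.card (cz g)) (Nat.card (cz z)) zv zs zw zt v w t := by
  have hs : (χb : G → ℂ) g + (χe : G → ℂ) g = ((1 + v - w - t : ℤ) : ℂ) := by
    have h := F.rel' D hg
    rw [hv, hw, ht, hB] at h
    simp [sgnB, candB] at h
    push_cast
    linear_combination h
  refine ⟨Nat.le_of_dvd (by norm_num) (D.cz_dvd_8640 hg hg1), ?_, ?_, ?_, ?_, ?_⟩
  · have hn := F.norm' D hg
    rw [hv, hw, ht] at hn
    simp only [Complex.norm_intCast, sq_abs] at hn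
    have htri : |((1 + v - w - t : ℤ) : ℝ)| ≤ ‖(χb : G → ℂ) g‖ + ‖(χe : G → ℂ) g‖ := by
      rw [← Complex.norm_intCast, ← hs]; exact norm_add_le _ _
    have hsq := mul_self_le_mul_self (abs_nonneg _) htri
    rw [abs_mul_abs_self] at hsq
    have hr : ((2 * (1 + v * v + w * w + 2 * (t * t)) + (1 + v - w - t) * (1 + v - w - t) : ℤ) : ℝ) ≤
        ((2 * (Nat.card (cz g) : ℤ) : ℤ) : ℝ) := by
      push_cast at hsq ⊢
      nlinarith [sq_nonneg (‖(χb : G → ℂ) g‖ - ‖(χe : G → ℂ) g‖)]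
    exact_mod_cast hr
  · obtain ⟨⟨m₁, h₁⟩, m₂, h₂⟩ := F.same_count D hg hg1
    rw [ht, map_intCast, hB] at h₂
    rw [hB] at h₁
    refine Int.emod_eq_zero_of_dvd ⟨(m₁ : ℤ) - m₂, ?_⟩
    have h : (((320 * t : ℤ)) : ℂ) = (((Nat.card (cz g) : ℤ) * ((m₁ : ℤ) - m₂) : ℤ) : ℂ) := by
      norm_num [Cand.K, candB] at h₁ h₂ ⊢
      linear_combination (1 / 11 : ℂ) * h₁ - (1 / 11 : ℂ) * h₂
    exact_mod_cast h
  · obtain ⟨⟨m₁, h₁⟩, -⟩ := F.same_count D hg hg1
    rw [hB] at h₁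
    refine Int.emod_eq_zero_of_dvd ⟨m₁, ?_⟩
    have hsc : conj ((χb : G → ℂ) g) + conj ((χe : G → ℂ) g) = ((1 + v - w - t : ℤ) : ℂ) := by
      rw [← map_add, hs, map_intCast]
    have h : ((8640 + 60 * v + 270 * (1 + v - w - t) + 160 * w + 1920 * t : ℤ) : ℂ) =
        ((11 * (Nat.card (cz g) : ℤ) * (m₁ : ℤ) : ℤ) : ℂ) := by
      simp only [aC, hv, hw, ht, map_intCast] at h₁
      norm_num [Cand.K, candB] at h₁ hsc ⊢
      linear_combination h₁ - (270 : ℂ) * hsc
    exact_mod_cast h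
  all_goals
    obtain ⟨m, hm, -⟩ := F.cross_count D hg hz hg1
    have h : ((8640 + 60 * v * zv - 270 * (1 + v - w - t) * zs - 160 * w * zw - 320 * t * zt : ℤ) : ℂ) =
        (((m : ℤ) * ((Nat.card (cz g) : ℤ) * (Nat.card (cz z) : ℤ)) : ℤ) : ℂ) := by
      simp only [qC, hv, hw, ht, hzv, hzb, hze, hzw, hzt, hB] at hm
      norm_num [Cand.K, sgnB, candB] at hm hs ⊢
      linear_combination hm + (270 : ℂ) * (zs : ℂ) * hs
    have h' : 8640 + 60 * v * zv - 270 * (1 + v - w - t) * zs - 160 * w * zw - 320 * t * zt =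
        (m : ℤ) * ((Nat.card (cz g) : ℤ) * (Nat.card (cz z) : ℤ)) := by exact_mod_cast h
    rw [h']
    first
      | positivity
      | exact Int.emod_eq_zero_of_dvd (dvd_mul_left _ _)

theorem not_B (hB : p = candB) : False := by
  classical
  haveI : Fact (Nat.Prime 5) := ⟨by norm_num⟩
  obtain ⟨z, hz, hzc⟩ := D.exists_z
  obtain ⟨a, b, e, f, t, ha, hb, he, hf, ht, hgood⟩ := F.invol_search D hz (by rw [hB]; exact candB_invol) hzc
    fun _ _ _ _ _ ha hb he hf ht => F.invol D hz ha hb he hf ht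
  have hcases : (Nat.card (cz z) = 320 ∨ Nat.card (cz z) = 960) ∧ (a, b, e, f, t) = ((-6, -4, -4, -12, 3) : V) ∨
      Nat.card (cz z) = 960 ∧ (a, b, e, f, t) = ((6, 8, 8, 24, 3) : V) := by
    simp only [goodIn, decide_eq_true_eq, List.mem_cons, List.not_mem_nil, or_false] at hgood
    rcases hgood with h | h | h <;> obtain ⟨h1, h2⟩ := Prod.mk.inj h
    · exact Or.inl ⟨Or.inl h1, h2⟩
    · exact Or.inl ⟨Or.inr h1, h2⟩
    · exact Or.inr ⟨h1, h2⟩
  have hintA : ∀ g, ∃ v : ℤ, (χa : G → ℂ) g = v := F.uniq_int D F.memA (F.entryA D).2.2.1 (fun _ => rfl)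
    (by rw [hB]; simp [candB]) (by rw [hB]; simp [candB]) (by rw [hB]; simp [candB]) (by rw [hB]; simp [candB])
    (by rw [hB]; simp [candB])
  have hintF : ∀ g, ∃ v : ℤ, (χf : G → ℂ) g = v := F.uniq_int D F.memF (F.entryF D).2.2.1
    (by rw [hB]; simp [candB]) (by rw [hB]; simp [candB]) (by rw [hB]; simp [candB]) (fun _ => rfl)
    (by rw [hB]; simp [candB]) (by rw [hB]; simp [candB])
  have hintT : ∀ {g : G}, ¬ 11 ∣ orderOf g → ∃ v : ℤ, (θ : G → ℂ) g = v := fun hg =>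
    F.exc_int D (by rw [hB]; simp [candB]) hg
  obtain ⟨⟨y, hyz⟩, hy⟩ := exists_prime_orderOf_dvd_card' (G := cz z) 5 (by
    rcases hcases with ⟨h | h, -⟩ | ⟨h, -⟩ <;> rw [h] <;> norm_num)
  rw [Subgroup.orderOf_mk] at hy
  -- any element of order five in the centralizer of `z`
  have step : ∀ w : G, orderOf w = 5 → ∃ v u r : ℤ, (χf : G → ℂ) w = v ∧ (χa : G → ℂ) w = u ∧ (θ : G → ℂ) w = r ∧
      Nat.card (cz z) = 960 ∧ ((a, b, e, f, t) = ((6, 8, 8, 24, 3) : V)) ∧ Nat.card (cz w) = 120 ∧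
      v % 2 = 0 ∧ u % 2 = 0 ∧ r % 2 = 1 := by
    intro w hw
    have h11 : ¬ 11 ∣ orderOf w := by rw [hw]; norm_num
    have hw1 : w ≠ 1 := fun h => by rw [h, orderOf_one] at hw; norm_num at hw
    obtain ⟨v, hv⟩ := hintF w
    obtain ⟨u, hu⟩ := hintA w
    obtain ⟨r, hr⟩ := hintT h11
    refine ⟨v, u, r, hv, hu, hr, ?_⟩
    have hok : linDeg v u r = true := by
      have hcg : ∀ {χ : IrrCharacter G} {n : ℤ} {d : ℤ}, (χ : G → ℂ) w = n → deg χ = d → (5 : ℤ) ∣ d - n :=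
        fun {χ} {n} {d} hn hd => CfsgLib.InvolValues.int_value_congr (p := 5) (by norm_num) (isCharacter_irr χ)
          (show w ^ 5 = 1 by rw [← hw]; exact pow_orderOf_eq_one w) hn (by rw [apply_one_eq, hd])
      have e1 := (F.entryF D).2.2.1
      have e2 := (F.entryA D).2.2.1
      have e3 := (F.entry_T D).2.2.1
      rw [hB] at e1 e2 e3
      have c1 := hcg hv e1.symm
      have c2 := hcg hu e2.symm
      have c3 := hcg hr e3.symm
      simp [linDeg, candB] at c1 c2 c3 ⊢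
      omega
    obtain ⟨hwl, -⟩ := D.five_data hw
    rcases hcases with ⟨hc, hvec⟩ | ⟨hc, hvec⟩ <;> simp only [Prod.mk.injEq] at hvec <;>
      obtain ⟨rfl, rfl, rfl, rfl, rfl⟩ := hvec <;>
      have hL := F.lin_facts D hB h11 hw1 (by rw [hz]; norm_num : ¬ 11 ∣ orderOf z) hv hu hr hf hb he ha ht
    · rcases hc with hc | hc <;> rw [hc] at hL
      · exact absurd (lin_sound candB_five_fst.1 hwl hL hok) (by simp)
      · exact absurd (lin_sound candB_five_fst.2 hwl hL hok) (by simp)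
    · rw [hc] at hL
      have := lin_sound candB_five_snd hwl hL hok
      simp only [decide_eq_true_eq] at this
      exact ⟨hc, rfl, this⟩
  obtain ⟨-, -, -, -, -, -, hc, hvec, -⟩ := step y hy
  have hy2 : orderOf (y ^ 2) = 5 := by rw [orderOf_pow' _ (by norm_num), hy]; rfl
  obtain ⟨v2, u2, r2, hv2, hu2, hr2, -, -, hc2, pv, pu, pr⟩ := step (y ^ 2) hy2
  simp only [Prod.mk.injEq] at hvec
  obtain ⟨rfl, rfl, rfl, rfl, rfl⟩ := hvec
  have hcomm : Commute z y := (mem_cz.1 hyz).symm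
  have hzz : z ^ 2 = 1 := by rw [← hz]; exact pow_orderOf_eq_one z
  have hy5 : y ^ 5 = 1 := by rw [← hy]; exact pow_orderOf_eq_one y
  set w := z * y with hw
  have hwo : orderOf w = 10 := by
    rw [hw, hcomm.orderOf_mul_eq_mul_orderOf_of_coprime (by rw [hz, hy]; norm_num), hz, hy]
  have h11 : ¬ 11 ∣ orderOf w := by rw [hwo]; norm_num
  have hw1 : w ≠ 1 := fun h => by rw [h, orderOf_one] at hwo; norm_num at hwo
  have hw5 : w ^ 5 = z := by
    rw [hw, hcomm.mul_pow, hy5, mul_one, show 5 = 2 * 2 + 1 by norm_num, pow_succ, pow_mul, hzz, one_pow, one_mul]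
  have hw2 : w ^ 2 = y ^ 2 := by rw [hw, hcomm.mul_pow, hzz, one_mul]
  obtain ⟨v, hv⟩ := hintF w
  obtain ⟨u, hu⟩ := hintA w
  obtain ⟨r, hr⟩ := hintT h11
  have hok : linProd v u r = true := by
    have c5 : ∀ {χ : IrrCharacter G} {n n' : ℤ}, (χ : G → ℂ) w = n → (χ : G → ℂ) z = n' → (5 : ℤ) ∣ n' - n :=
      fun {χ} {n} {n'} hn hn' => CfsgLib.InvolValues.int_value_congr (p := 5) (by norm_num) (isCharacter_irr χ) hw5 hn hn'
    have c2 : ∀ {χ : IrrCharacter G} {n n' : ℤ}, (χ : G → ℂ) w = n → (χ : G → ℂ) (y ^ 2) = n' → (2 : ℤ) ∣ n' - n :=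
      fun {χ} {n} {n'} hn hn' => CfsgLib.InvolValues.int_value_congr (p := 2) (by norm_num) (isCharacter_irr χ) hw2 hn hn'
    have := c5 hv hf
    have := c5 hu ha
    have := c5 hr ht
    have := c2 hv hv2
    have := c2 hu hu2
    have := c2 hr hr2
    simp only [linProd, Bool.and_eq_true, decide_eq_true_eq]
    omega
  have hsub : Nat.card (cz w) ∣ Nat.card (cz (y ^ 2)) := Subgroup.card_dvd_of_le fun k hk => by
    refine mem_cz.2 ?_
    rw [← hw2]
    exact (show Commute k w from mem_cz.1 hk).pow_right 2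
  have h10 : 10 ∣ Nat.card (cz w) := hwo ▸ Subgroup.orderOf_dvd_natCard _ (mem_cz.2 rfl)
  have hL := F.lin_facts D hB h11 hw1 (by rw [hz]; norm_num : ¬ 11 ∣ orderOf z) hv hu hr hf hb he ha ht
  rw [hc] at hL
  rw [hc2] at hsub
  have := lin_sound candB_prod (cu_sub _ (mem_divList (by norm_num) h10 (D.cz_dvd_8640 h11 hw1))
    (Nat.mod_eq_zero_of_dvd hsub)) hL hok
  simp at this

end Frame

namespace Dat

variable [Fact (Nat.Prime 11)] {M : Ideal AlgInt} [M.IsPrime] {S : Sylow 11 G} {x : G}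
  {X Y : Finset (IrrCharacter G)} {sg : IrrCharacter G → ℤ} {ε : ℤ} {θ : IrrCharacter G}
  (D : Dat M S x X Y sg ε θ)

include D

/-- **The degrees of the principal 11-block are those of the Mathieu group.** -/
theorem exists_frame0 : ∃ χa χb χe χf, Frame X sg ε θ cand0 χa χb χe χf := by
  obtain ⟨p, hp, χa, χb, χe, χf, F⟩ := D.exists_frame
  rcases cands_split p hp with h | h | h | h
  · rw [show p = cand0 from cand_ext (by rw [h]; rfl)] at F
    exact ⟨χa, χb, χe, χf, F⟩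
  · obtain ⟨r, hr, hr'⟩ := List.any_eq_true.1 h
    exact (F.not_dead D (cand_ext (of_decide_eq_true hr') ▸ hr)).elim
  · obtain ⟨r, hr, hr'⟩ := List.any_eq_true.1 h
    exact (F.not_six D (cand_ext (of_decide_eq_true hr') ▸ hr)).elim
  · exact (F.not_B D (cand_ext (by rw [h]; rfl))).elim

end Dat

end CfsgLib.M12Order
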