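import Mathlib.Data.List.Basic
import Mathlib.Data.Int.Order.Basic
import Mathlib.Tactic.Ring
import Mathlib.Tactic.Linarith

/-!
# A search for the values of the principal 11-block at a regular element

Values are shifted by 93 so that the inner loop works with natural numbers only. The evaluation is made
strict by passing every number through `force`.
-/

set_option autoImplicit false

namespace CfsgLib.M12Order

/-- The signed degrees. -/
structure Cand where
  s1 : ℤ
  s2 : ℤ
  s3 : ℤ
  s4 : ℤ
  st : ℤ

/-- Values at an element. -/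
abbrev V : Type := ℤ × ℤ × ℤ × ℤ × ℤ

/-- A condition on one value: centralizer order, degree, position, value. -/
abbrev Ok : Type := ℕ → ℕ → ℕ → ℤ → Bool

namespace Cand

/-- The sign of a signed degree. -/
def sgn : ℤ → ℤ
  | .ofNat _ => 1
  | .negSucc _ => -1

/-- Whether the sign is positive. -/
def pos : ℤ → Bool
  | .ofNat _ => true
  | .negSucc _ => false

/-- `8640` divided by a degree. -/
def K (s : ℤ) : ℕ := 8640 / s.natAbs

/-- The sum entering the number of pairs of elements of order eleven. -/
def A (p : Cand) : V → ℤ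
  | (a, b, e, f, t) => 8640 + K p.s1 * a + K p.s2 * b + K p.s3 * e + K p.s4 * f + 6 * (K p.st * t)

/-- The bilinear form. -/
def Q (p : Cand) : V → V → ℤ
  | (a, b, e, f, t), (a', b', e', f', t') =>
    8640 + sgn p.s1 * K p.s1 * (a * a') + sgn p.s2 * K p.s2 * (b * b') + sgn p.s3 * K p.s3 * (e * e') +
      sgn p.s4 * K p.s4 * (f * f') - sgn p.st * K p.st * (t * t')

end Cand

/-- Strict evaluation of a natural number. -/
def force {α : Type} : ℕ → (ℕ → α) → α
  | 0, k => k 0
  | n + 1, k => k (n + 1)

/-- Strict evaluation of a list of natural numbers. -/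
def forceL {α : Type} : List ℕ → (List ℕ → α) → α
  | [], k => k []
  | x :: xs, k => force x fun y => forceL xs fun ys => k (y :: ys)

/-- All members satisfy the test. -/
def allF : List ℕ → (ℕ → Bool) → Bool
  | [], _ => true
  | x :: xs, f => force x f && allF xs f

/-- The shifted value. -/
def toV (w : ℕ) : ℤ := (w : ℤ) - 93

/-- The absolute value of a shifted value. -/
def absW (w : ℕ) : ℕ := (w - 93) + (93 - w)

/-- The square of a shifted value. -/
def sq (w : ℕ) : ℕ := absW w * absW w

/-- A shifted value times a sign. -/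
def sw (s : Bool) (w : ℕ) : ℕ := cond s w (186 - w)

/-- Shifted values of square at most `c` and absolute value less than `d` satisfying `ok`. -/
def wl (c d i : ℕ) (ok : Ok) : List ℕ :=
  (List.range 187).filter fun w => Nat.ble (sq w) c && Nat.blt (absW w) d && ok c d i (toV w)

/-- The possible values at an exceptional position. -/
def wt (c d k : ℕ) (ok : Ok) : List ℕ :=
  (List.range 187).filter fun w =>
    Nat.ble (1 + 2 * sq w) c && Nat.blt (absW w) d && Nat.beq (k * absW w % c) 0 && ok c d 4 (toV w)

/-- All values passing every test are good. -/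
def chk (p : Cand) (cs : List ℕ) (ok : Ok) (post good : ℕ → V → Bool) : Bool :=
  force (Cand.K p.s1) fun k1 => force (Cand.K p.s2) fun k2 => force (Cand.K p.s3) fun k3 =>
  force (Cand.K p.s4) fun k4 => force (Cand.K p.st) fun kt =>
  force (93 * (k1 + k2 + k3 + k4 + 6 * kt)) fun C => force p.s4.natAbs fun d4 =>
  allF cs fun c =>
    forceL (wt c p.st.natAbs kt ok) fun lt =>
    forceL (wl c p.s1.natAbs 0 ok) fun l1 => forceL (wl c p.s2.natAbs 1 ok) fun l2 =>
    forceL (wl c p.s3.natAbs 2 ok) fun l3 =>
    allF lt fun t => allF l1 fun a =>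
      force (1 + 2 * sq t + sq a) fun na => !Nat.ble na c ||
        allF l2 fun b => force (na + sq b) fun nb => !Nat.ble nb c ||
          allF l3 fun e =>
            force (1 + sw (Cand.pos p.s1) a + sw (Cand.pos p.s2) b + sw (Cand.pos p.s3) e) fun m =>
            force (sw (Cand.pos p.st) t + 279) fun u =>
            !Nat.ble m u || !Nat.ble (u - m) 186 || force (sw (Cand.pos p.s4) (u - m)) fun f =>
              !Nat.ble (nb + sq e + sq f) c || !Nat.blt (absW f) d4 ||
              force (8640 + (k1 * a + k2 * b + k3 * e + k4 * f + 6 * (kt * t))) fun S =>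
                !Nat.ble C S || !Nat.beq ((S - C) % (11 * c)) 0 ||
                !Nat.ble (C + 11 * (kt * t)) (S + 1023 * kt) ||
                !ok c p.s4.natAbs 3 (toV f) ||
                !decide (0 ≤ p.Q (toV a, toV b, toV e, toV f, toV t) (toV a, toV b, toV e, toV f, toV t)) ||
                !decide (p.Q (toV a, toV b, toV e, toV f, toV t) (toV a, toV b, toV e, toV f, toV t) %
                  ((c : ℤ) * (c : ℤ)) = 0) ||
                !post c (toV a, toV b, toV e, toV f, toV t) ||
                good c (toV a, toV b, toV e, toV f, toV t)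

/-- Component of a vector. -/
def comp : V → ℕ → ℤ
  | (a, _, _, _, _), 0 => a
  | (_, b, _, _, _), 1 => b
  | (_, _, e, _, _), 2 => e
  | (_, _, _, f, _), 3 => f
  | (_, _, _, _, t), _ => t

/-- No condition. -/
def okAny : Ok := fun _ _ _ _ => true

/-- Both conditions. -/
def okAnd (f g : Ok) : Ok := fun c d i v => f c d i v && g c d i v

/-- Congruent to the degree modulo `m`. -/
def okDeg (m : ℤ) : Ok := fun _ d _ v => decide ((v - (d : ℤ)) % m = 0)

/-- Degrees divisible by five give values divisible by five, if five divides the centralizer order. -/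
def okFive : Ok := fun c d _ v => !(decide (c % 5 = 0) && decide (d % 5 = 0)) || decide (v % 5 = 0)

/-- Degrees divisible by five give the value zero. -/
def okZero : Ok := fun _ d _ v => !decide (d % 5 = 0) || decide (v = 0)

/-- Congruent to a given vector. -/
def okVec (w : V) (m : ℤ) : Ok := fun _ _ i v => decide ((v - comp w i) % m = 0)

/-- No further test. -/
def postAny : ℕ → V → Bool := fun _ _ => true

/-- The element is an involution: it is no product of two conjugates equal to `x`. -/
def postInvol (p : Cand) : ℕ → V → Bool := fun _ v => decide (p.Q v v = 0)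

/-- The test against a second element. -/
def postCross (p : Cand) (cz : ℕ) (w : V) : ℕ → V → Bool := fun c v =>
  decide (0 ≤ p.Q v w) && decide (p.Q v w % ((c : ℤ) * (cz : ℤ)) = 0)

/-- Both tests. -/
def postAnd (f g : ℕ → V → Bool) : ℕ → V → Bool := fun c v => f c v && g c v

/-- Nothing is good. -/
def goodNone : ℕ → V → Bool := fun _ _ => false

/-- The good values are listed. -/
def goodIn (l : List (ℕ × V)) : ℕ → V → Bool := fun c v => decide ((c, v) ∈ l)

/-- The degrees of the Mathieu group. -/
def cand0 : Cand := ⟨-120, -54, 45, 144, 16⟩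

/-- The values of the Mathieu group at an involution from the centre of a Sylow subgroup. -/
def zVec : V := (-8, 6, -3, 0, 0)

/-- The values at the element of order three of the local analysis. -/
def yVec : V := (-6, 9, -6, 6, -2)

/-- Possible centralizer orders of an involution with a central Sylow subgroup. -/
def czList : List ℕ := [64, 192, 576, 1728, 320, 960, 2880, 8640]

/-- The multiples of `k` dividing 8640. -/
def divList (k : ℕ) : List ℕ :=
  ((List.range (8640 / k + 1)).map (k * ·)).filter fun c => decide (0 < c ∧ 8640 % c = 0)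

/-- The candidates for the signed degrees, the trivial character left out. -/
def cands : List Cand := [
  ⟨-120, -54, -32, 45, -160⟩,
  ⟨-120, -54, 45, 144, 16⟩,
  ⟨-120, -10, 12, 45, -72⟩,
  ⟨-120, -10, 12, 144, 27⟩,
  ⟨-120, -10, 45, 144, 60⟩,
  ⟨-120, 45, 45, 45, 16⟩,
  ⟨-54, -54, -10, 45, -72⟩,
  ⟨-54, -54, -10, 144, 27⟩,
  ⟨-54, -32, -32, 45, -72⟩,
  ⟨-54, -32, -32, 144, 27⟩,
  ⟨-54, -10, 12, 45, -6⟩,
  ⟨-54, -10, 45, 45, 27⟩,
  ⟨-54, 12, 12, 45, 16⟩,
  ⟨-32, -32, 12, 45, -6⟩,
  ⟨-32, -32, 45, 45, 27⟩,
  ⟨-32, -10, -10, 45, -6⟩,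
  ⟨-32, -10, 12, 45, 16⟩,
  ⟨-10, -10, -10, 45, 16⟩,
  ⟨-10, 12, 12, 12, 27⟩,
  ⟨-10, 12, 12, 45, 60⟩]

/-- The candidates without an admissible involution centralized by a Sylow subgroup. -/
def deadList : List Cand := [
  ⟨-120, -10, 12, 144, 27⟩,
  ⟨-120, 45, 45, 45, 16⟩,
  ⟨-54, -54, -10, 45, -72⟩,
  ⟨-54, -54, -10, 144, 27⟩,
  ⟨-54, -32, -32, 45, -72⟩,
  ⟨-54, -10, 12, 45, -6⟩,
  ⟨-54, 12, 12, 45, 16⟩,
  ⟨-32, -32, 12, 45, -6⟩,
  ⟨-32, -32, 45, 45, 27⟩,
  ⟨-32, -10, -10, 45, -6⟩,
  ⟨-32, -10, 12, 45, 16⟩,
  ⟨-10, 12, 12, 12, 27⟩]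

/-- The candidates without an admissible involution commuting with an element of order five. -/
def sixList : List Cand := [
  ⟨-120, -54, -32, 45, -160⟩,
  ⟨-120, -10, 12, 45, -72⟩,
  ⟨-120, -10, 45, 144, 60⟩,
  ⟨-54, -10, 45, 45, 27⟩,
  ⟨-10, -10, -10, 45, 16⟩,
  ⟨-10, 12, 12, 45, 60⟩]

/-- The candidate of degrees 144, 32, 32, 54 and 27. -/
def candB : Cand := ⟨-54, -32, -32, 144, 27⟩

/-- The candidate of degrees 10, 10, 10, 45 and 16. -/
def candC : Cand := ⟨-10, -10, -10, 45, 16⟩

/-- The candidate of degrees 10, 12, 12, 45 and 60. -/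
def candD : Cand := ⟨-10, 12, 12, 45, 60⟩

/-- The test on the values at an involution for the candidate `candD`. -/
def goodD : ℕ → V → Bool := fun c v =>
  decide ((comp v 1 = -4 ∧ comp v 2 = 4) ∨ (comp v 1 = 4 ∧ comp v 2 = -4) ∨ (comp v 1 = 0 ∧ comp v 2 = 0 ∧ 576 ≤ c))

/-- Tests with one pair of values only known through its sum. -/
def lin (cs : List ℕ) (ok : ℤ → ℤ → ℤ → Bool) (cz : ℕ) (zv zs zw zt : ℤ) (good : ℕ → ℤ → ℤ → ℤ → Bool) : Bool :=
  allF cs fun c =>
    forceL ((List.range 187).filter fun w => Nat.ble (sq w) c) fun l =>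
    forceL (l.filter fun w => Nat.ble (1 + 2 * sq w) c && Nat.beq (320 * absW w % c) 0) fun lt =>
    allF lt fun t => allF l fun v => allF l fun w =>
      !ok (toV v) (toV w) (toV t) ||
      !decide (2 * (1 + toV v * toV v + toV w * toV w + 2 * (toV t * toV t)) +
        (1 + toV v - toV w - toV t) * (1 + toV v - toV w - toV t) ≤ 2 * (c : ℤ)) ||
      !decide ((8640 + 60 * toV v + 270 * (1 + toV v - toV w - toV t) + 160 * toV w + 1920 * toV t) %
        (11 * (c : ℤ)) = 0) ||
      !decide (0 ≤ 8640 + 60 * toV v * zv - 270 * (1 + toV v - toV w - toV t) * zs - 160 * toV w * zw -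
        320 * toV t * zt) ||
      !decide ((8640 + 60 * toV v * zv - 270 * (1 + toV v - toV w - toV t) * zs - 160 * toV w * zw -
        320 * toV t * zt) % ((c : ℤ) * (cz : ℤ)) = 0) ||
      good c (toV v) (toV w) (toV t)

/-- Possible centralizer orders of elements of order five. -/
def fiveList : List ℕ := [10, 20, 45, 60, 120, 135, 270, 360, 720, 2160, 4320]

/-- Congruences at an element of order five. -/
def linDeg : ℤ → ℤ → ℤ → Bool := fun v w t =>
  decide ((v - 144) % 5 = 0) && decide ((w - 54) % 5 = 0) && decide ((t - 27) % 5 = 0)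

/-- Congruences at a product of such an element with an involution. -/
def linProd : ℤ → ℤ → ℤ → Bool := fun v w t =>
  decide ((v - 24) % 5 = 0) && decide ((w - 6) % 5 = 0) && decide ((t - 3) % 5 = 0) &&
    decide (v % 2 = 0) && decide (w % 2 = 0) && decide (t % 2 = 1)

theorem cands_complete : ∀ a ∈ [(-120 : ℤ), -54, -32, -10, 12, 45, 144], ∀ b ∈ [(-120 : ℤ), -54, -32, -10, 12, 45, 144],
    ∀ e ∈ [(-120 : ℤ), -54, -32, -10, 12, 45, 144], ∀ f ∈ [(-120 : ℤ), -54, -32, -10, 12, 45, 144],
    a ≤ b → b ≤ e → e ≤ f → ∀ t ∈ [(16 : ℤ), 27, 60, 192, -6, -72, -160, -270], t = 1 + a + b + e + f →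
      1 + a * a + b * b + e * e + f * f + 2 * (t * t) ≤ 95040 →
      (cands.any fun q => decide (q.s1 = a ∧ q.s2 = b ∧ q.s3 = e ∧ q.s4 = f ∧ q.st = t)) = true := by
  decide +kernel

theorem kill_dead : (deadList.all fun p => chk p czList (okAnd (okDeg 4) okFive) (postInvol p) goodNone) = true := by
  decide +kernel

theorem kill_six : (sixList.all fun p => chk p (divList 10) (okAnd (okDeg 4) okFive) (postInvol p) goodNone) = true := by
  decide +kernel

theorem kill_six_odd : (sixList.all fun p =>
    chk p [45, 135] (okAnd (okDeg 5) okZero) postAny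
      (fun c v => decide (p.s4 = 45 ∧ p.s1 = -10 ∧ p.s2 = -10 ∧ c = 45) && decide (v = (0, 0, 0, 0, 1)))) = true := by
  decide +kernel

theorem candD_invol : chk candD czList (okAnd (okDeg 4) okFive) (postInvol candD) goodD = true := by
  decide +kernel

theorem candB_invol : chk candB czList (okAnd (okDeg 4) okFive) (postInvol candB)
    (goodIn [(320, (-6, -4, -4, -12, 3)), (960, (-6, -4, -4, -12, 3)), (960, (6, 8, 8, 24, 3))]) = true := by
  decide +kernel

theorem candB_five_fst : lin fiveList linDeg 320 (-12) (-4) (-6) 3 (fun _ _ _ _ => false) = true ∧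
    lin fiveList linDeg 960 (-12) (-4) (-6) 3 (fun _ _ _ _ => false) = true := by
  decide +kernel

theorem candB_five_snd : lin fiveList linDeg 960 24 8 6 3
    (fun c v w t => decide (c = 120 ∧ v % 2 = 0 ∧ w % 2 = 0 ∧ t % 2 = 1)) = true := by
  decide +kernel

theorem candB_prod : lin [10, 20, 30, 40, 60, 120] linProd 960 24 8 6 3 (fun _ _ _ _ => false) = true := by
  decide +kernel

theorem cand0_invol : chk cand0 czList (okAnd (okDeg 4) okFive) (postInvol cand0) (goodIn [(192, zVec)]) = true := by
  decide +kernel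

theorem local_inv32 : chk cand0 (divList 32) (okAnd (okDeg 4) okFive)
    (postAnd (postInvol cand0) (postCross cand0 192 zVec)) (goodIn [(192, zVec)]) = true := by
  decide +kernel

theorem local_inv216 : chk cand0 (divList 216) (okAnd (okDeg 4) okFive) (postInvol cand0)
    (fun _ v => decide (comp v 2 = 5)) = true := by
  decide +kernel

theorem local_two : chk cand0 [16, 32, 48, 64, 96, 192] (okDeg 2) (postCross cand0 192 zVec)
    (fun _ v => decide (comp v 4 = 0)) = true := by
  decide +kernel

theorem local_w : chk cand0 [6, 12, 24, 48, 96, 192] (okVec zVec 3) (postCross cand0 192 zVec)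
    (goodIn [(6, (1, 0, 0, 0, 0)), (24, (-2, 3, 0, 0, 0)), (48, (4, 0, 3, 0, 0)), (192, zVec)]) = true := by
  decide +kernel

theorem local_y24 : chk cand0 (divList 24) (okAnd (okDeg 3) (okAnd okFive (okVec (-2, 3, 0, 0, 0) 2)))
    (postCross cand0 192 zVec) (goodIn [(216, yVec)]) = true := by
  decide +kernel

theorem local_y48 : chk cand0 (divList 48) (okAnd (okDeg 3) (okAnd okFive (okVec (4, 0, 3, 0, 0) 2)))
    (postCross cand0 192 zVec) goodNone = true := by
  decide +kernel

theorem local_y192 : chk cand0 (divList 192) (okAnd (okDeg 3) (okAnd okFive (okVec zVec 2)))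
    (postCross cand0 192 zVec) goodNone = true := by
  decide +kernel

theorem local_ye : chk cand0 [12, 24, 36, 72, 108, 216] (okVec yVec 2) (postCross cand0 192 zVec)
    (goodIn [(24, (-2, 3, 0, 0, 0)), (216, yVec), (216, (-2, 9, -2, 10, 2))]) = true := by
  decide +kernel

end CfsgLib.M12Order
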