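import Cfsg.Agent.M12Graph.SimpleOrders

/-!
# Simple groups of order 95040: the Sylow subgroups of order eleven

There are 1728 of them and each is its own centralizer, with a normalizer of order 55.
-/

set_option autoImplicit false
set_option linter.style.haveILetI false
set_option linter.unusedSectionVars false

namespace CfsgLib.M12Order

open Subgroup MulAction CfsgLib.FixedPoints CfsgLib.M12Graph

/-- The configurations whose order is exactly 95040. -/
theorem exact_configurations : ∀ k ∈ [12, 45, 144, 320, 540, 1728], ∀ e ∈ [2, 5, 10], ∀ c : Fin 433, k * e * c.1 = 8640 →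
    (k = 12 ∧ c.1 ≠ 1) ∨ (e = 2 ∧ c.1 ≠ 1) ∨ (k = 1728 ∧ e = 5 ∧ c.1 = 1) ∨ (k = 144 ∧ e = 10 ∧ c.1 = 6) ∨
      (k = 144 ∧ e = 5 ∧ c.1 = 12) ∨ (e = 2 ∧ c.1 = 1 ∧ k = 4320) := by
  decide +kernel

variable {G : Type*} [Group G] [Finite G]

/-- A subgroup of order four, normal in the normalizer, leads to a contradiction. -/
theorem kill_four [IsSimpleGroup G] (hP11 : ∀ R : Sylow 11 G, Nat.card (R : Subgroup G) = 11)
    (h144 : Nat.card (Sylow 11 G) = 144) (hsq : ¬ 11 ^ 2 ∣ Nat.card G) (P : Sylow 11 G)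
    (he : (centralizer ((P : Subgroup G) : Set G)).relIndex (normalizer ((P : Subgroup G) : Set G)) = 5)
    (T : Subgroup G) (hT : Nat.card T = 4) (hTC : T ≤ centralizer ((P : Subgroup G) : Set G))
    (hTN : normalizer ((P : Subgroup G) : Set G) ≤ normalizer (T : Set G)) : False := by
  classical
  haveI : Fact (Nat.Prime 2) := ⟨Nat.prime_two⟩
  have hG := not_comm_of_sylows P (by rw [h144]; norm_num)
  obtain ⟨⟨s, hsT⟩, hs⟩ := exists_prime_orderOf_dvd_card' (G := T) 2 (by rw [hT]; norm_num)
  rw [orderOf_mk] at hs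
  have hTtop : normalizer (T : Set G) ≠ ⊤ := fun h => by
    haveI := normalizer_eq_top_iff.1 h
    rcases IsSimpleGroup.eq_bot_or_eq_top_of_normal T inferInstance with e | e
    · rw [e, card_bot] at hT; omega
    · have hP := card_subgroup_dvd_card (P : Subgroup G)
      rw [hP11 P, ← card_top (G := G), ← e, hT] at hP
      omega
  have hH := normalizer_eq_of_le hP11 h144 hsq P hTN hTtop (hTC hsT) Nat.prime_two (by norm_num) hs
  -- fixed points of `T`
  have hT2 : IsPGroup 2 T := IsPGroup.of_card (n := 2) (by rw [hT]; norm_num)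
  have hmod := hT2.card_modEq_card_fixedPoints (Sylow 11 G)
  rw [h144] at hmod
  have hPfix : P ∈ fixedPoints T (Sylow 11 G) := fun t =>
    Sylow.smul_eq_iff_mem_normalizer.2 (centralizer_le_normalizer _ (hTC t.2))
  have h1 : 1 < Nat.card (fixedPoints T (Sylow 11 G)) := by
    have hpos : 0 < Nat.card (fixedPoints T (Sylow 11 G)) := Finite.card_pos_iff.2 ⟨⟨P, hPfix⟩⟩
    unfold Nat.ModEq at hmod
    omega
  haveI := Finite.one_lt_card_iff_nontrivial.1 h1
  obtain ⟨⟨Q, hQ⟩, hne⟩ := exists_ne (⟨P, hPfix⟩ : fixedPoints T (Sylow 11 G))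
  refine hne (Subtype.ext ?_)
  show Q = P
  have hTQ : ∀ t ∈ T, t ∈ centralizer ((Q : Subgroup G) : Set G) := by
    intro t ht
    have htN : t ∈ normalizer ((Q : Subgroup G) : Set G) := Sylow.smul_eq_iff_mem_normalizer.1 (hQ ⟨t, ht⟩)
    obtain ⟨g, -, hgN, hgC⟩ := relIndex_sylow P Q t htN
    by_cases ht1 : t = 1
    · subst ht1; exact one_mem _
    have ht4 : orderOf t ∣ 4 := hT ▸ Subgroup.orderOf_dvd_natCard T ht
    -- an element whose order is a power of two lies in the centralizer, the index being odd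
    refine hgC ?_
    set u := g * t * g⁻¹
    set C' := (centralizer ((P : Subgroup G) : Set G)).subgroupOf (normalizer ((P : Subgroup G) : Set G)) with hC'def
    haveI : C'.Normal := by
      rw [hC'def, ← normalizerMonoidHom_ker]
      exact MonoidHom.normal_ker _
    have h5 : orderOf (QuotientGroup.mk' C' ⟨u, hgN⟩) ∣ 5 := by
      rw [show (5 : ℕ) = C'.index from he.symm, index_eq_card]
      exact orderOf_dvd_natCard _
    have h4 : orderOf (QuotientGroup.mk' C' ⟨u, hgN⟩) ∣ 4 := by
      refine (orderOf_map_dvd _ _).trans ?_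
      rw [orderOf_mk]
      show orderOf (g * t * g⁻¹) ∣ 4
      rwa [← MulAut.conj_apply, MulEquiv.orderOf_eq]
    have h := Nat.eq_one_of_dvd_coprimes (show Nat.Coprime 4 5 by norm_num) h4 h5
    exact mem_subgroupOf.1 ((QuotientGroup.eq_one_iff _).1 (orderOf_eq_one_iff.1 h))
  obtain ⟨x, hxQ, hx, -⟩ := exists_sylow_gen Q (hP11 Q)
  have hxH : x ∈ normalizer ((P : Subgroup G) : Set G) := by
    rw [← hH]
    refine centralizer_le_normalizer _ (mem_centralizer_iff.2 fun t ht => ?_)
    exact (mem_centralizer_iff.1 (hTQ t ht) x hxQ).symm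
  exact (sylow_eq_of_fixed hP11 hxQ (fun h => by rw [h, orderOf_one] at hx; omega)
    (Sylow.smul_eq_iff_mem_normalizer.2 hxH)).symm

/-- In a group of order 132 with a central subgroup of order eleven, a Sylow subgroup for one of the
primes two and three is unique. -/
theorem unique_two_or_three {C : Type*} [Group C] [Finite C] (hC : Nat.card C = 132) {p : C} (hp : orderOf p = 11)
    (hpc : ∀ c : C, Commute p c) [Fact (Nat.Prime 2)] [Fact (Nat.Prime 3)] :
    Subsingleton (Sylow 2 C) ∨ Subsingleton (Sylow 3 C) := by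
  classical
  haveI := Fintype.ofFinite C
  by_cases h3 : Subsingleton (Sylow 3 C)
  · exact Or.inr h3
  left
  have hn : Nat.card (Sylow 3 C) ≠ 1 := fun h => h3 (Nat.card_eq_one_iff_unique.1 h).1
  have hc3 : ∀ S : Sylow 3 C, Nat.card (S : Subgroup C) = 3 := fun S => by
    rw [CfsgLib.SmallSimple.card_sylow_eq S (k := 1) (m := 44) (by rw [hC]; norm_num) (by norm_num), pow_one]
  -- the elements killed by four
  set A := Finset.univ.filter fun c : C => c ^ 4 = 1 with hA
  set B := Finset.univ.filter fun c : C => c ^ 3 = 1 ∧ c ≠ 1 with hB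
  have hB8 : 8 ≤ B.card := by
    have hn4 : 4 ≤ Nat.card (Sylow 3 C) := by
      have hm : Nat.card (Sylow 3 C) % 3 = 1 := card_sylow_modEq_one 3 C
      have hpos : 0 < Nat.card (Sylow 3 C) := Nat.card_pos
      omega
    haveI := Fintype.ofFinite (Sylow 3 C)
    have hdisj : ∀ S ∈ (Finset.univ : Finset (Sylow 3 C)), ∀ S' ∈ (Finset.univ : Finset (Sylow 3 C)), S ≠ S' →
        Disjoint (B.filter fun c => c ∈ (S : Subgroup C)) (B.filter fun c => c ∈ (S' : Subgroup C)) := by
      intro S _ S' _ hne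
      refine Finset.disjoint_left.2 fun c hc hc' => hne (Sylow.ext ?_)
      rw [Finset.mem_filter, hB, Finset.mem_filter] at hc hc'
      have hz : ∀ R : Sylow 3 C, c ∈ (R : Subgroup C) → zpowers c = (R : Subgroup C) := fun R hR => by
        refine eq_of_le_of_card_ge (zpowers_le.2 hR) (le_of_eq ?_)
        rw [hc3, Nat.card_zpowers, orderOf_eq_prime hc.1.2.1 hc.1.2.2]
      rw [← hz S hc.2, ← hz S' hc'.2]
    have h2 : ∀ S : Sylow 3 C, 2 ≤ (B.filter fun c => c ∈ (S : Subgroup C)).card := by
      intro S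
      haveI := Fintype.ofFinite (S : Subgroup C)
      have h : ((Finset.univ : Finset (S : Subgroup C)).erase 1).card ≤
          (B.filter fun c => c ∈ (S : Subgroup C)).card := by
        refine Finset.card_le_card_of_injOn Subtype.val (fun c hc => ?_) Subtype.val_injective.injOn
        refine Finset.mem_filter.2 ⟨Finset.mem_filter.2 ⟨Finset.mem_univ _, ?_,
          fun h => (Finset.mem_erase.1 hc).1 (Subtype.ext h)⟩, c.2⟩
        refine orderOf_dvd_iff_pow_eq_one.1 ?_
        have h := Subgroup.orderOf_dvd_natCard (S : Subgroup C) c.2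
        rwa [hc3 S] at h
      rwa [Finset.card_erase_of_mem (Finset.mem_univ _), Finset.card_univ, ← Nat.card_eq_fintype_card, hc3] at h
    calc 8 ≤ ∑ S : Sylow 3 C, (B.filter fun c => c ∈ (S : Subgroup C)).card := by
          refine le_trans ?_ (Finset.card_nsmul_le_sum _ _ 2 fun S _ => h2 S)
          rw [Finset.card_univ, ← Nat.card_eq_fintype_card, smul_eq_mul]
          omega
      _ = (Finset.univ.biUnion fun S : Sylow 3 C => B.filter fun c => c ∈ (S : Subgroup C)).card :=
          (Finset.card_biUnion hdisj).symm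
      _ ≤ B.card := Finset.card_le_card fun c hc => by
          obtain ⟨S, -, h⟩ := Finset.mem_biUnion.1 hc
          exact (Finset.mem_filter.1 h).1
  -- multiplying by the central elements
  haveI := Fintype.ofFinite (zpowers p)
  have hpow : ∀ (k : zpowers p), (k : C) ^ 11 = 1 := fun k => by
    refine orderOf_dvd_iff_pow_eq_one.1 ?_
    have h := Subgroup.orderOf_dvd_natCard _ k.2
    rwa [Nat.card_zpowers, hp] at h
  have hkc : ∀ (k : zpowers p) (c : C), Commute (k : C) c := fun k c => by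
    obtain ⟨i, hi⟩ := mem_zpowers_iff.1 k.2
    rw [← hi]
    exact (hpc c).zpow_left i
  have hsep : ∀ a b : C, (a ^ 12 = 1) → (b ^ 12 = 1) → ∀ k l : zpowers p, a * k = b * l → a = b ∧ k = l := by
    intro a b ha hb k l h
    have e : ∀ (w : C) (j : zpowers p), w ^ 12 = 1 → (w * j) ^ 12 = (j : C) := fun w j hw => by
      rw [(hkc j w).symm.mul_pow, hw, one_mul, show (12 : ℕ) = 11 + 1 from rfl, pow_succ, hpow, one_mul]
    have hkl : k = l := Subtype.ext (by rw [← e a k ha, h, e b l hb])
    rw [hkl] at h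
    exact ⟨mul_right_cancel h, hkl⟩
  have hAB : Disjoint A B := Finset.disjoint_left.2 fun c hc hc' => by
    rw [hA, Finset.mem_filter] at hc
    rw [hB, Finset.mem_filter] at hc'
    refine hc'.2.2 ?_
    have h := hc.2
    rwa [show (4 : ℕ) = 3 + 1 from rfl, pow_succ, hc'.2.1, one_mul] at h
  have h12 : ∀ c ∈ A ∪ B, c ^ 12 = 1 := fun c hc => by
    rcases Finset.mem_union.1 hc with h | h <;> rw [Finset.mem_filter] at h
    · rw [show (12 : ℕ) = 4 * 3 from rfl, pow_mul, h.2, one_pow]
    · rw [show (12 : ℕ) = 3 * 4 from rfl, pow_mul, h.2.1, one_pow]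
  have hle : (A ∪ B).card * 11 ≤ 132 := by
    rw [← hC, Nat.card_eq_fintype_card, ← Finset.card_univ (α := C)]
    calc (A ∪ B).card * 11 = ((A ∪ B) ×ˢ (Finset.univ : Finset (zpowers p))).card := by
          rw [Finset.card_product, Finset.card_univ, ← Nat.card_eq_fintype_card, Nat.card_zpowers, hp]
      _ ≤ _ := Finset.card_le_card_of_injOn (fun a => a.1 * (a.2 : C)) (fun a _ => Finset.mem_univ _)
          (fun a ha b hb h => by
            have ha' := (Finset.mem_product.1 ha).1
            have hb' := (Finset.mem_product.1 hb).1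
            obtain ⟨h1, h2⟩ := hsep a.1 b.1 (h12 _ ha') (h12 _ hb') a.2 b.2 h
            exact Prod.ext h1 h2)
  rw [Finset.card_union_of_disjoint hAB] at hle
  refine ⟨fun S S' => ?_⟩
  have key : ∀ S : Sylow 2 C, ∀ c, c ∈ (S : Subgroup C) ↔ c ∈ A := by
    intro S
    haveI := Fintype.ofFinite (S : Subgroup C)
    have hS : Nat.card (S : Subgroup C) = 4 :=
      CfsgLib.SmallSimple.card_sylow_eq S (k := 2) (m := 33) (by rw [hC]; norm_num) (by norm_num)
    have hsub : (Finset.univ : Finset (S : Subgroup C)).image Subtype.val ⊆ A := fun c hc => by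
      obtain ⟨⟨d, hd⟩, -, rfl⟩ := Finset.mem_image.1 hc
      exact Finset.mem_filter.2 ⟨Finset.mem_univ _,
        orderOf_dvd_iff_pow_eq_one.1 (hS ▸ Subgroup.orderOf_dvd_natCard _ hd)⟩
    have hc : ((Finset.univ : Finset (S : Subgroup C)).image Subtype.val).card = 4 := by
      rw [Finset.card_image_of_injective _ Subtype.val_injective, Finset.card_univ, ← Nat.card_eq_fintype_card, hS]
    have heq := Finset.eq_of_subset_of_card_le hsub (by rw [hc]; omega)
    intro c
    rw [← heq, Finset.mem_image]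
    exact ⟨fun h => ⟨⟨c, h⟩, Finset.mem_univ _, rfl⟩, fun ⟨⟨d, hd⟩, _, h⟩ => h ▸ hd⟩
  exact Sylow.ext (SetLike.ext fun c => (key S c).trans (key S' c).symm)

/-- **The Sylow subgroups of order eleven.** -/
theorem eleven [IsSimpleGroup G] (hcard : Nat.card G = 95040) [Fact (Nat.Prime 11)] (P : Sylow 11 G) :
    Nat.card (Sylow 11 G) = 1728 ∧ Nat.card (centralizer ((P : Subgroup G) : Set G)) = 11 ∧
      (centralizer ((P : Subgroup G) : Set G)).relIndex (normalizer ((P : Subgroup G) : Set G)) = 5 := by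
  classical
  have hp : Nat.Prime 11 := by norm_num
  have hsq : ¬ 11 ^ 2 ∣ Nat.card G := by rw [hcard]; norm_num
  have hP11 : ∀ R : Sylow 11 G, Nat.card (R : Subgroup G) = 11 := fun R =>
    SmallDegreeGraph.card_sylow_eq_prime (by rw [hcard]; norm_num) hsq R
  have hG : ¬ IsMulCommutative G := fun h => by
    letI : CommGroup G := { (inferInstance : Group G) with mul_comm := h.is_comm.comm }
    have := IsSimpleGroup.prime_card (α := G)
    rw [hcard] at this
    norm_num at this
  set C := centralizer ((P : Subgroup G) : Set G) with hCdef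
  set N := normalizer ((P : Subgroup G) : Set G) with hNdef
  obtain ⟨c, hC⟩ : 11 ∣ Nat.card C := hP11 P ▸ card_dvd_of_le (comm_of_card_prime (hP11 P))
  obtain ⟨e, he⟩ : ∃ e, C.relIndex N = e := ⟨_, rfl⟩
  have hNc : Nat.card N = 11 * c * e := by
    rw [← he, ← hC, ← Nat.card_congr (subgroupOfEquivOfLe (centralizer_le_normalizer _ : C ≤ N)).toEquiv]
    exact (card_mul_index (C.subgroupOf N)).symm
  have hlt : Nat.card (P : Subgroup G) < Nat.card G := by rw [hP11 P, hcard]; norm_num
  have he1 : e ≠ 1 := fun h => by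
    refine CfsgLib.SmallSimple.not_le_centralizer P (by rw [hP11 P]; norm_num) hlt ?_
    exact relIndex_eq_one.1 (he.trans h)
  have he10 : e ∣ 10 := by
    rw [← he]
    show (C.subgroupOf N).index ∣ 10
    rw [hCdef, hNdef, ← normalizerMonoidHom_ker, index_ker]
    refine (card_subgroup_dvd_card _).trans ?_
    haveI : IsCyclic (P : Subgroup G) := isCyclic_of_prime_card (hP11 P)
    rw [IsCyclic.card_mulAut, hP11 P, Nat.totient_prime hp]
  set k := Nat.card (Sylow 11 G) with hk
  have hn : k * (11 * c * e) = 95040 := by rw [← hNc, ← hcard]; exact CfsgLib.SmallSimple.card_sylow_mul P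
  have hkec : k * e * c = 8640 := by
    refine Nat.eq_of_mul_eq_mul_left (n := 11) (by norm_num) ?_
    rw [show 11 * (k * e * c) = k * (11 * c * e) by ring, hn]
  have hk1 : k ≠ 1 := CfsgLib.SmallSimple.card_sylow_ne_one P (by rw [hP11 P]; norm_num) hlt
  have hkmod : k % 11 = 1 := Eq.trans (card_sylow_modEq_one 11 G) (by norm_num)
  have hkL : k ∈ [12, 45, 144, 320, 540, 1728] :=
    (sylow_count_options k ⟨e * c, by rw [← hkec, mul_assoc]⟩ hkmod).resolve_left hk1
  have he' : e ∈ [2, 5, 10] := by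
    have hd : ∀ e : Fin 11, e.1 ∣ 10 → e.1 ≠ 1 → e.1 ∈ [2, 5, 10] := by decide
    exact hd ⟨e, Nat.lt_succ_of_le (Nat.le_of_dvd (by norm_num) he10)⟩ he10 he1
  have hcle : c < 433 := by
    have h2 : 2 ≤ e := by simp only [List.mem_cons, List.not_mem_nil, or_false] at he'; omega
    have h12 : 12 ≤ k := by simp only [List.mem_cons, List.not_mem_nil, or_false] at hkL; omega
    have : 12 * 2 * c ≤ k * e * c := Nat.mul_le_mul_right c (Nat.mul_le_mul h12 h2)
    omega
  haveI : Fact (Nat.Prime 2) := ⟨Nat.prime_two⟩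
  haveI : Fact (Nat.Prime 3) := ⟨Nat.prime_three⟩
  rcases exact_configurations k hkL e he' ⟨c, hcle⟩ hkec with ⟨hk12, hc⟩ | ⟨he2, hc⟩ | ⟨hk', hee, hcc⟩ | ⟨hk144, hee, hcc⟩ |
    ⟨hk144, hee, hcc⟩ | ⟨-, -, hk'⟩
  · exfalso
    obtain ⟨x, hxP, hx, -⟩ := exists_sylow_gen P (hP11 P)
    have hidx : N.index = 12 := (Sylow.card_eq_index_normalizer P).symm.trans hk12
    obtain ⟨q, hq, hqc⟩ := Nat.exists_prime_and_dvd hc
    haveI := Fact.mk hq
    have hq11 : q ≠ 11 := by
      rintro rfl
      have : 11 ∣ 8640 := hkec ▸ hqc.mul_left (k * e)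
      norm_num at this
    obtain ⟨⟨w, hw⟩, hwo⟩ := exists_prime_orderOf_dvd_card' (G := C) q (hC ▸ hqc.mul_left 11)
    rw [orderOf_mk] at hwo
    have h1 := eq_one_of_index_twelve hidx hx (le_normalizer hxP) (centralizer_le_normalizer _ hw)
      (mem_centralizer_iff.1 hw x hxP).symm hq hq11 (by rw [← hwo, pow_orderOf_eq_one])
    rw [h1, orderOf_one] at hwo
    exact hq.one_lt.ne hwo
  · exfalso
    obtain ⟨hC11, -⟩ := real_case hG (dvd_of_eq hcard) P (hP11 P) (he.trans he2)
    rw [← hCdef, hC] at hC11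
    simp only at hc
    omega
  · refine ⟨hk', ?_, he.trans hee⟩
    simp only at hcc
    rw [hC, hcc]
  · exfalso
    simp only at hcc
    obtain ⟨T, hT, hTC, hTN⟩ := exists_invariant P (hP11 P) (q := 3) (a := 1) (b := 2) (by rw [hC]) (by norm_num)
      (by rw [hcc]; norm_num) (by norm_num) (fun d hd hm => by
        rcases (Nat.dvd_prime Nat.prime_two).1 hd with rfl | rfl <;> omega)
    obtain ⟨⟨s, hsT⟩, hs⟩ := exists_prime_orderOf_dvd_card' (G := T) 3 (by rw [hT]; norm_num)
    rw [orderOf_mk] at hs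
    refine kill_normal hP11 (hk ▸ hk144) hsq P (he.trans hee) Nat.prime_three (by norm_num) (by norm_num) (hTC hsT) hs ?_
    rwa [eq_of_le_of_card_ge (zpowers_le.2 hsT) (by rw [hT, Nat.card_zpowers, hs, pow_one])]
  · exfalso
    simp only at hcc
    have hC' : Nat.card C = 132 := by rw [hC, hcc]
    obtain ⟨x, hxP, hx, -⟩ := exists_sylow_gen P (hP11 P)
    have hxC : x ∈ C := comm_of_card_prime (hP11 P) hxP
    have hconjC : ∀ g ∈ N, ∀ t ∈ C, g * t * g⁻¹ ∈ C := by
      intro g hg t ht
      refine mem_centralizer_iff.2 fun p hp => ?_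
      have hp' : g⁻¹ * p * g ∈ (P : Subgroup G) := by simpa using (mem_normalizer_iff.1 (inv_mem hg) p).1 hp
      calc p * (g * t * g⁻¹) = g * (g⁻¹ * p * g * t) * g⁻¹ := by group
        _ = g * (t * (g⁻¹ * p * g)) * g⁻¹ := by rw [mem_centralizer_iff.1 ht _ hp']
        _ = g * t * g⁻¹ * p := by group
    have hnorm : ∀ (q : ℕ) [Fact q.Prime] (S : Sylow q C), Subsingleton (Sylow q C) →
        N ≤ normalizer ((((S : Subgroup C).map C.subtype) : Subgroup G) : Set G) := by
      intro q _ S hsub g hg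
      have key : ∀ g ∈ N, ∀ t ∈ (S : Subgroup C).map C.subtype, g * t * g⁻¹ ∈ (S : Subgroup C).map C.subtype := by
        rintro g hg _ ⟨t, ht, rfl⟩
        obtain ⟨j, hj⟩ := S.isPGroup' ⟨t, ht⟩
        have hj' : (t : G) ^ q ^ j = 1 := congrArg (fun v : (S : Subgroup C) => ((v : C) : G)) hj
        have ho : orderOf (⟨g * t * g⁻¹, hconjC g hg t t.2⟩ : C) ∣ q ^ j :=
          orderOf_dvd_of_pow_eq_one (Subtype.ext (by simp [conj_pow, hj']))
        obtain ⟨i, -, hi⟩ := (Nat.dvd_prime_pow Fact.out).1 ho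
        have hpg : IsPGroup q (zpowers (⟨g * t * g⁻¹, hconjC g hg t t.2⟩ : C)) :=
          IsPGroup.of_card (by rw [Nat.card_zpowers, hi])
        obtain ⟨T1, hT1⟩ := hpg.exists_le_sylow
        rw [hsub.elim T1 S] at hT1
        exact ⟨_, hT1 (mem_zpowers _), rfl⟩
      refine mem_normalizer_iff.2 fun t => ⟨key g hg t, fun h => ?_⟩
      have h' := key g⁻¹ (inv_mem hg) _ h
      rwa [inv_inv, show g⁻¹ * (g * t * g⁻¹) * g = t by group] at h'
    rcases unique_two_or_three (C := C) hC' (p := ⟨x, hxC⟩) (by rw [orderOf_mk]; exact hx)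
      (fun a => Subtype.ext (mem_centralizer_iff.1 a.2 x hxP)) with hsub | hsub
    · obtain ⟨S⟩ : Nonempty (Sylow 2 C) := inferInstance
      refine kill_four hP11 (hk ▸ hk144) hsq P (he.trans hee) _ ?_ (map_subtype_le _) (hnorm 2 S hsub)
      rw [card_map_of_injective C.subtype_injective, CfsgLib.SmallSimple.card_sylow_eq S (k := 2) (m := 33)
        (by rw [hC']; norm_num) (by norm_num)]
      norm_num
    · obtain ⟨S⟩ : Nonempty (Sylow 3 C) := inferInstance
      have hS3 : Nat.card ((S : Subgroup C).map C.subtype) = 3 := by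
        rw [card_map_of_injective C.subtype_injective, CfsgLib.SmallSimple.card_sylow_eq S (k := 1) (m := 44)
          (by rw [hC']; norm_num) (by norm_num), pow_one]
      obtain ⟨⟨s, hsT⟩, hs⟩ := exists_prime_orderOf_dvd_card' (G := (S : Subgroup C).map C.subtype) 3 (by rw [hS3])
      rw [orderOf_mk] at hs
      refine kill_normal hP11 (hk ▸ hk144) hsq P (he.trans hee) Nat.prime_three (by norm_num) (by norm_num)
        (map_subtype_le _ hsT) hs ?_
      rw [eq_of_le_of_card_ge (zpowers_le.2 hsT) (by rw [hS3, Nat.card_zpowers, hs])]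
      exact hnorm 3 S hsub
  · simp [hk'] at hkL

end CfsgLib.M12Order
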