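import Cfsg.Agent.M12Order.Local
import Cfsg.Agent.M12Order.NineOf
import Cfsg.Agent.M12Nse.NineExtra

/-!
# The normal subgroup of order 32 of the centralizer of a central involution

It is extraspecial, and some involution of it outside the centre has a centralizer order prime to 32, as
otherwise the exceptional character would vanish on it off the identity.
-/

set_option autoImplicit false
set_option linter.style.haveILetI false
set_option linter.unusedSectionVars false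

namespace CfsgLib.M12Order

open Cfsg Finset CfsgLib.Block CfsgLib.Block.Chr CfsgLib.BrauerPairs CfsgLib.BrauerPrime
open CfsgLib.Cyclic (deg)

universe u

/-- The sum of a character over a subgroup is a multiple of its order. -/
theorem sum_subgroup {G : Type*} [Group G] {χ : G → ℂ} (hχ : Cfsg.IsCharacter G χ) (H : Subgroup G) [Fintype H] :
    ∃ n : ℕ, ∑ h : H, χ (h : G) = (Nat.card H : ℂ) * (n : ℂ) := by
  classical
  obtain ⟨m, σ, hσ⟩ := CfsgLib.Char.IsCharacter.restrict hχ H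
  haveI : Invertible (Nat.card H : ℂ) := invertibleOfNonzero (by exact_mod_cast Nat.card_pos.ne')
  have h1 := FDRep.average_char_eq_finrank_invariants (FDRep.of σ)
  have e : ∀ h : H, (FDRep.of σ).character h = χ (h : G) := fun h => by
    show σ.character h = _
    rw [hσ]
  simp only [e] at h1
  rw [inv_mul_eq_iff_eq_mul₀ (by exact_mod_cast Nat.card_pos.ne')] at h1
  exact ⟨_, h1⟩

namespace Frame

variable {G : Type u} [Group G] [Fintype G]
  [Fact (Nat.Prime 11)] {M : Ideal AlgInt} [M.IsPrime] {S : Sylow 11 G} {x : G}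
  {X Y : Finset (IrrCharacter G)} {sg : IrrCharacter G → ℤ} {ε : ℤ} {θ : IrrCharacter G}
  {χa χb χe χf : IrrCharacter G}
  (F : Frame X sg ε θ cand0 χa χb χe χf) (D : Dat M S x X Y sg ε θ)
  {z : G} (hz : orderOf z = 2) (hC : Nat.card (cz z) = 192) (hzv : AtVec χa χb χe χf θ z zVec)

include F D hz hC hzv

theorem card_inf_cz {y : G} (hy : orderOf y = 3) (hyz : Commute y z) : Nat.card (cz y ⊓ cz z : Subgroup G) = 6 := by
  rw [← F.cz_mul D (by rw [← hy]; exact pow_orderOf_eq_one y) (by rw [← hz]; exact pow_orderOf_eq_one z) hyz]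
  exact F.three_six D hz hC hzv hy hyz

/-- No Sylow 2-subgroup of the centralizer is normal. -/
theorem no_normal_two (S : Subgroup (cz z)) (hn : S.Normal) (hS : Nat.card S = 64) : False := by
  classical
  haveI : Fact (Nat.Prime 3) := ⟨Nat.prime_three⟩
  haveI : Fact (Nat.Prime 2) := ⟨Nat.prime_two⟩
  obtain ⟨y, hy⟩ := exists_prime_orderOf_dvd_card' (G := cz z) 3 (by rw [hC]; norm_num)
  rw [← Subgroup.orderOf_coe] at hy
  set S' := S.map (cz z).subtype with hS'
  have hS'c : Nat.card S' = 64 := by rw [hS', Subgroup.card_map_of_injective (cz z).subtype_injective, hS]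
  have hmod := CfsgLib.M12Nse.card_modEq_fixed (p := 3) (n := 1) (x := (y : G))
    (by rw [pow_one, ← hy]; exact pow_orderOf_eq_one _) (· ∈ S') fun g => by
    constructor
    · rintro ⟨s, hs, rfl⟩
      exact ⟨y * s * y⁻¹, hn.conj_mem s hs y, rfl⟩
    · rintro ⟨s, hs, he⟩
      refine ⟨y⁻¹ * s * y, by simpa using hn.conj_mem s hs y⁻¹, ?_⟩
      simp only [map_mul, map_inv, he, Subgroup.coe_subtype]
      group
  have hf : Nat.card {g : G // g ∈ S' ∧ g * (y : G) = y * g} = Nat.card (S' ⊓ cz (y : G) : Subgroup G) :=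
    Nat.card_congr (Equiv.subtypeEquivRight fun g => by rw [Subgroup.mem_inf, mem_cz])
  rw [hf, show Nat.card {g : G // g ∈ S'} = 64 from hS'c] at hmod
  have h6 : Nat.card (S' ⊓ cz (y : G) : Subgroup G) ∣ 6 :=
    F.card_inf_cz D hz hC hzv hy (mem_cz.1 y.2) ▸ Subgroup.card_dvd_of_le
      (le_inf inf_le_right (inf_le_left.trans (Subgroup.map_subtype_le _)))
  have h64 : Nat.card (S' ⊓ cz (y : G) : Subgroup G) ∣ 64 := hS'c ▸ Subgroup.card_dvd_of_le inf_le_left
  have h2 : Nat.card (S' ⊓ cz (y : G) : Subgroup G) ∣ 2 := (Nat.dvd_gcd h6 h64).trans (by norm_num)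
  have hzS : (⟨z, mem_cz.2 rfl⟩ : cz z) ∈ S := by
    haveI := hn
    have hp : IsPGroup 2 (S ⊔ Subgroup.zpowers (⟨z, mem_cz.2 rfl⟩ : cz z) : Subgroup (cz z)) :=
      (IsPGroup.of_card (p := 2) (n := 6) (by rw [hS]; norm_num)).to_sup_of_normal_left
        (IsPGroup.of_card (n := 1) (by rw [Nat.card_zpowers, Subgroup.orderOf_mk, hz, pow_one]))
    obtain ⟨n, hk⟩ := IsPGroup.iff_card.1 hp
    replace hk : Nat.card (S ⊔ Subgroup.zpowers (⟨z, mem_cz.2 rfl⟩ : cz z) : Subgroup (cz z)) = 2 ^ n := hk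
    have hd := Subgroup.card_subgroup_dvd_card (S ⊔ Subgroup.zpowers (⟨z, mem_cz.2 rfl⟩ : cz z) : Subgroup (cz z))
    rw [hk, hC, show 192 = 2 ^ 6 * 3 by norm_num] at hd
    have hle := Nat.le_of_dvd (by norm_num) ((Nat.Coprime.pow_left n (by norm_num : Nat.Coprime 2 3)).dvd_of_dvd_mul_right hd)
    have heq := Subgroup.eq_of_le_of_card_ge (le_sup_left : S ≤ S ⊔ Subgroup.zpowers (⟨z, mem_cz.2 rfl⟩ : cz z))
      (by rw [hS, hk]; exact hle)
    exact heq ▸ Subgroup.mem_sup_right (Subgroup.mem_zpowers _)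
  have hzI : z ∈ S' ⊓ cz (y : G) := ⟨⟨_, hzS, rfl⟩, mem_cz.2 (mem_cz.1 y.2).symm⟩
  have hge : 2 ∣ Nat.card (S' ⊓ cz (y : G) : Subgroup G) := hz ▸ Subgroup.orderOf_dvd_natCard _ hzI
  rw [Nat.dvd_antisymm h2 hge] at hmod
  exact absurd hmod (by decide)

theorem sylow_three [Fact (Nat.Prime 3)] (P : Sylow 3 (cz z)) : Nat.card (P : Subgroup (cz z)) = 3 ∧
    Nat.card (Subgroup.normalizer ((P : Subgroup (cz z)) : Set (cz z))) = 12 := by
  classical
  have hP : Nat.card (P : Subgroup (cz z)) = 3 := by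
    rw [CfsgLib.SmallSimple.card_sylow_eq P (k := 1) (m := 64) (by rw [hC]; norm_num) (by norm_num), pow_one]
  refine ⟨hP, ?_⟩
  obtain ⟨y₀, hy₀⟩ := exists_prime_orderOf_dvd_card' (G := (P : Subgroup (cz z))) 3 (by rw [hP])
  rw [← Subgroup.orderOf_coe] at hy₀
  have hgen : Subgroup.zpowers (y₀ : cz z) = (P : Subgroup (cz z)) :=
    Subgroup.eq_of_le_of_card_ge (Subgroup.zpowers_le.2 y₀.2) (by rw [Nat.card_zpowers, hy₀, hP])
  have hy : orderOf ((y₀ : cz z) : G) = 3 := by rw [Subgroup.orderOf_coe]; exact hy₀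
  set N := Subgroup.normalizer ((P : Subgroup (cz z)) : Set (cz z)) with hN
  haveI : IsCyclic (P : Subgroup (cz z)) := isCyclic_of_prime_card hP
  have hA : Nat.card (MulAut (P : Subgroup (cz z))) = 2 := by
    rw [IsCyclic.card_mulAut, hP, Nat.totient_prime Nat.prime_three]
  set ψ := (P : Subgroup (cz z)).normalizerMonoidHom with hψ
  have hker : Nat.card ψ.ker = 6 := by
    rw [← F.card_inf_cz D hz hC hzv hy (mem_cz.1 (y₀ : cz z).2), hψ, Subgroup.normalizerMonoidHom_ker]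
    refine (Nat.card_congr (Subgroup.subgroupOfEquivOfLe (Subgroup.centralizer_le_normalizer _)).toEquiv).trans ?_
    refine Nat.card_congr
      { toFun := fun g => ⟨((g : cz z) : G), ⟨mem_cz.2 (congrArg Subtype.val
          (Subgroup.mem_centralizer_iff.1 g.2 _ y₀.2)).symm, (g : cz z).2⟩⟩
        invFun := fun g => ⟨⟨g.1, g.2.2⟩, Subgroup.mem_centralizer_iff.2 fun w hw => ?_⟩
        left_inv := fun _ => rfl
        right_inv := fun _ => rfl }
    rw [SetLike.mem_coe, ← hgen] at hw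
    obtain ⟨i, rfl⟩ := Subgroup.mem_zpowers_iff.1 hw
    exact ((show Commute (y₀ : cz z) (⟨g.1, g.2.2⟩ : cz z) from Subtype.ext (mem_cz.1 g.2.1).symm).zpow_left i).eq
  have hrd : Nat.card ψ.range ∣ 2 := hA ▸ Subgroup.card_subgroup_dvd_card ψ.range
  have hmul : 6 * Nat.card ψ.range = Nat.card N := by rw [← hker, ← Subgroup.index_ker, Subgroup.card_mul_index]
  have hs := CfsgLib.SmallSimple.card_sylow_mul P
  have hm : Nat.card (Sylow 3 (cz z)) % 3 = 1 := card_sylow_modEq_one 3 (cz z)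
  rw [hC, ← hN] at hs
  rcases (Nat.dvd_prime Nat.prime_two).1 hrd with h | h <;> rw [h] at hmul
  · exfalso
    rw [← hmul] at hs
    omega
  · omega

/-- The action on the three Sylow 2-subgroups. -/
theorem exists_nine : Nonempty (CfsgLib.M12Nse.Nine z) :=
  exists_nine_of hz hC (F.no_normal_two D hz hC hzv) fun {_} P => F.sylow_three D hz hC hzv P

/-- A nonidentity element of the normal subgroup of order 32 has exceptional value zero, if it and its
involution power have large centralizers. -/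
theorem zero_of_large {q : G} (hq5 : q ^ 2 ^ 5 = 1) (hq1 : q ≠ 1) (h16 : 16 ∣ Nat.card (cz q))
    (h32 : q * q = 1 → 32 ∣ Nat.card (cz q))
    (hpow : q * q ≠ 1 → ∀ n : ℕ, orderOf ((q * q) ^ n) = 2 → 32 ∣ Nat.card (cz ((q * q) ^ n))) :
    (θ : G → ℂ) q = 0 := by
  by_cases h2 : q * q = 1
  · exact (F.invol32 D hz hC hzv (orderOf_eq_prime (by rw [pow_two]; exact h2) hq1) (h32 h2)).2
  · haveI : Fact (Nat.Prime 2) := ⟨Nat.prime_two⟩
    obtain ⟨k, -, hk⟩ := (Nat.dvd_prime_pow Nat.prime_two).1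
      (show orderOf (q * q) ∣ 2 ^ 4 from orderOf_dvd_of_pow_eq_one (by
        rw [← pow_two, ← pow_mul, show 2 * 2 ^ 4 = 2 ^ 5 by norm_num, hq5]))
    have hk0 : k ≠ 0 := fun h => h2 (orderOf_eq_one_iff.1 (by rw [hk, h, pow_zero]))
    have hv : orderOf ((q * q) ^ 2 ^ (k - 1)) = 2 := by
      rw [orderOf_pow' _ (by positivity), hk, Nat.gcd_eq_right (Nat.pow_dvd_pow 2 (Nat.sub_le k 1)),
        Nat.pow_div (Nat.sub_le k 1) two_pos, show k - (k - 1) = 1 by omega, pow_one]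
    have h192 := (F.invol32 D hz hC hzv hv (hpow h2 _ hv)).1
    refine F.two_zero D hz hC hzv (k := 5) hq5 hq1 (h192 ▸ Subgroup.card_dvd_of_le fun g hg => mem_cz.2 ?_) h16
    have hc : Commute g (q * q) := (show Commute g q from mem_cz.1 hg).mul_right (mem_cz.1 hg)
    exact (hc.pow_right _).eq

variable (N : CfsgLib.M12Nse.Nine z)

theorem theta_sum : ∃ q ∈ N.Q, q ≠ 1 ∧ (θ : G → ℂ) q ≠ 0 := by
  classical
  by_contra hcon
  push Not at hcon
  haveI := Fintype.ofFinite N.Q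
  obtain ⟨n, hn⟩ := sum_subgroup (isCharacter_irr θ) N.Q
  rw [N.card_Q, Finset.sum_eq_single (1 : N.Q) (fun q _ hq => hcon q q.2 fun h => hq (Subtype.ext h))
    (fun h => absurd (mem_univ _) h), OneMemClass.coe_one, apply_one_eq, ← (F.entry_T D).2.2.1] at hn
  have h : (16 : ℤ) = 32 * (n : ℤ) := by
    have h' : (((16 : ℤ)) : ℂ) = ((32 * (n : ℤ) : ℤ) : ℂ) := by
      simp [cand0] at hn ⊢
      linear_combination hn
    exact_mod_cast h'
  omega

theorem sq_mem_Zc {a : G} (ha : a ∈ N.Q) : a * a ∈ N.Zc := by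
  refine N.Zc_iff.2 ⟨mul_mem ha ha, fun r hr => ?_⟩
  set n := a * r * a⁻¹ * r⁻¹ with hn
  have hnz := N.comm_mem hz ha hr
  have hnc : a * n = n * a := by
    obtain ⟨i, hi⟩ := Subgroup.mem_zpowers_iff.1 hnz
    rw [← hn] at hi
    rw [← hi]
    exact ((show Commute a z from mem_cz.1 (N.Q_le ha)).zpow_right i).eq
  have hnn : n * n = 1 := by
    rcases CfsgLib.M12Nse.zpowers_two (CfsgLib.M12Nse.involution_sq hz) hnz with e | e
    · rw [hn, e, one_mul]
    · rw [hn, e, CfsgLib.M12Nse.involution_sq hz]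
  have har : a * r = n * r * a := by rw [hn]; group
  calc r * (a * a) = n * n * r * a * a := by rw [hnn]; group
    _ = n * (n * r * a) * a := by group
    _ = n * (a * r) * a := by rw [har]
    _ = n * a * r * a := by group
    _ = a * n * r * a := by rw [hnc]
    _ = a * (n * r * a) := by group
    _ = a * (a * r) := by rw [har]
    _ = _ := by group

theorem pow_five {q : G} (hq : q ∈ N.Q) : q ^ 2 ^ 5 = 1 := by
  have h := pow_card_eq_one' (x := (⟨q, hq⟩ : N.Q))
  rw [N.card_Q] at h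
  exact congrArg Subtype.val h

theorem zero_center {q : G} (hq : q ∈ N.Zc) (hq1 : q ≠ 1) : (θ : G → ℂ) q = 0 := by
  have key : ∀ v ∈ N.Zc, 32 ∣ Nat.card (cz v) := fun v hv =>
    N.card_Q ▸ Subgroup.card_dvd_of_le fun r hr => mem_cz.2 ((N.Zc_iff.1 hv).2 r hr)
  exact F.zero_of_large D hz hC hzv (F.pow_five D hz hC hzv N (N.Zc_iff.1 hq).1) hq1
    ((show 16 ∣ 32 by norm_num).trans (key q hq)) (fun _ => key q hq)
    fun _ n _ => key _ (pow_mem (mul_mem hq hq) n)

theorem card_Zc : Nat.card N.Zc = 2 ∨ Nat.card N.Zc = 8 ∨ Nat.card N.Zc = 32 := by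
  have hinv : ∀ g, g ∈ N.Zc ↔ (N.x : G) * g * (N.x : G)⁻¹ ∈ N.Zc := fun g =>
    ⟨N.Zc_normal N.x_mem, fun hg => by simpa [mul_assoc] using N.Zc_normal (inv_mem N.x_mem) hg⟩
  have hm := N.card_mod hz N.Zc inf_le_left hinv
  rw [inf_eq_right.2 (Subgroup.zpowers_le.2 N.zZc), Nat.card_zpowers, hz] at hm
  obtain ⟨i, hi5, hi⟩ := (Nat.dvd_prime_pow Nat.prime_two).1
    (show Nat.card N.Zc ∣ 2 ^ 5 by rw [show (2 : ℕ) ^ 5 = Nat.card N.Q by rw [N.card_Q]; norm_num]; exact Subgroup.card_dvd_of_le inf_le_left)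
  rw [hi] at hm ⊢
  interval_cases i <;> omega

/-- With a centre of order eight the involutions are central. -/
theorem invol_central (h8 : Nat.card N.Zc = 8) {q : G} (hq : q ∈ N.Q) (hq2 : q * q = 1) : q ∈ N.Zc := by
  classical
  by_contra hqZ
  have hzz := CfsgLib.M12Nse.involution_sq hz
  set x : G := (N.x : G) with hx
  set a' := x * q * x⁻¹ with ha'
  set a'' := x * a' * x⁻¹ with ha''
  have hqx : a' ∈ N.Q := N.Q_normal N.x_mem hq
  have hqxx : a'' ∈ N.Q := N.Q_normal N.x_mem hqx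
  have hconj : ∀ {b : G}, b * b = 1 → (x * b * x⁻¹) * (x * b * x⁻¹) = 1 := fun {b} hb => by
    rw [show x * b * x⁻¹ * (x * b * x⁻¹) = x * (b * b) * x⁻¹ by group, hb]; group
  have h2' : a' * a' = 1 := hconj hq2
  have h2'' : a'' * a'' = 1 := hconj h2'
  have hx3 : x ^ 3 = 1 := N.x_cubed
  have hback : x * a'' * x⁻¹ = q := by
    rw [ha'', ha', show x * (x * (x * q * x⁻¹) * x⁻¹) * x⁻¹ = x ^ 3 * q * (x ^ 3)⁻¹ by simp [pow_succ, mul_assoc], hx3]
    simp
  set p := q * a' * a'' with hp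
  have hpQ : p ∈ N.Q := mul_mem (mul_mem hq hqx) hqxx
  set n := p⁻¹ * (x * p * x⁻¹) with hn
  have hnz : n ∈ Subgroup.zpowers z := by
    have h1 := N.comm_mem hz (inv_mem (mul_mem hqx hqxx)) (inv_mem hq)
    rwa [hn, show x * p * x⁻¹ = a' * a'' * q by
      rw [hp, show x * (q * a' * a'') * x⁻¹ = x * q * x⁻¹ * (x * a' * x⁻¹) * (x * a'' * x⁻¹) by group, hback],
      show p⁻¹ * (a' * a'' * q) = (a' * a'')⁻¹ * q⁻¹ * (a' * a'')⁻¹⁻¹ * q⁻¹⁻¹ by rw [hp]; group]
  have hzx : Commute x z := mem_cz.1 N.x_mem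
  have hxn : x * n * x⁻¹ = n := by
    obtain ⟨i, hi⟩ := Subgroup.mem_zpowers_iff.1 hnz
    rw [← hi]
    exact mul_inv_eq_iff_eq_mul.2 (hzx.zpow_right i).eq
  have hn1 : n = 1 := by
    have e1 : x * p * x⁻¹ = p * n := by rw [hn]; group
    have h3 : n * n * n = 1 := by
      have : x * (x * (x * p * x⁻¹) * x⁻¹) * x⁻¹ = p * (n * n * n) := by
        rw [e1, show x * (p * n) * x⁻¹ = (x * p * x⁻¹) * (x * n * x⁻¹) by group, hxn, e1,
          show x * (p * n * n) * x⁻¹ = (x * p * x⁻¹) * (x * n * x⁻¹) * (x * n * x⁻¹) by group, hxn, e1]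
        group
      rw [show x * (x * (x * p * x⁻¹) * x⁻¹) * x⁻¹ = x ^ 3 * p * (x ^ 3)⁻¹ by simp [pow_succ, mul_assoc], hx3, one_mul,
        inv_one, mul_one] at this
      exact mul_eq_left.1 this.symm
    rcases CfsgLib.M12Nse.zpowers_two hzz hnz with e | e
    · exact e
    · rw [e, hzz, one_mul] at h3; rw [h3] at hz; rw [orderOf_one] at hz; norm_num at hz
  have hpz : p ∈ Subgroup.zpowers z := N.fixQ hpQ (by
    rw [hn, inv_mul_eq_one] at hn1
    exact eq_mul_inv_iff_mul_eq.1 hn1)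
  have hpc : ∀ g ∈ N.Q, Commute p g := fun g hg => by
    obtain ⟨i, hi⟩ := Subgroup.mem_zpowers_iff.1 hpz
    rw [← hi]
    exact (show Commute z g from (mem_cz.1 (N.Q_le hg)).symm).zpow_left i
  have hpp : p * p = 1 := by
    rcases CfsgLib.M12Nse.zpowers_two hzz hpz with e | e <;> rw [e]
    · exact one_mul 1
    · exact hzz
  have inv_eq : ∀ {b : G}, b * b = 1 → b⁻¹ = b := fun hb => inv_eq_of_mul_eq_one_right hb
  have hqa : Commute q a' := by
    have h1 : q * a' = p * a'' := by rw [hp, mul_assoc, h2'', mul_one]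
    have h2 : q * a' * (q * a') = 1 := by
      rw [h1, (hpc a'' hqxx).symm.mul_mul_mul_comm p a'', hpp, h2'', one_mul]
    have h3 := inv_eq_of_mul_eq_one_right h2
    rw [mul_inv_rev, inv_eq hq2, inv_eq h2'] at h3
    exact h3.symm
  have hqa' : Commute q a'' := by
    have e : a'' = a'⁻¹ * q⁻¹ * p := by rw [hp]; group
    rw [e]
    exact (hqa.inv_right.mul_right (Commute.refl q).inv_right).mul_right (hpc q hq).symm
  -- the subgroup centralising `q`
  set A := N.Zc ⊔ Subgroup.zpowers q ⊔ Subgroup.zpowers a' with hA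
  have hAQ : A ≤ N.Q := sup_le (sup_le inf_le_left (Subgroup.zpowers_le.2 hq)) (Subgroup.zpowers_le.2 hqx)
  have hAq : A ≤ cz q := sup_le (sup_le (fun g hg => mem_cz.2 ((N.Zc_iff.1 hg).2 q hq).symm)
    (Subgroup.zpowers_le.2 (mem_cz.2 rfl))) (Subgroup.zpowers_le.2 (mem_cz.2 hqa.symm.eq))
  have hmap : A ≤ A.comap (MulAut.conj x).toMonoidHom := by
    refine sup_le (sup_le (fun g hg => Subgroup.mem_sup_left (Subgroup.mem_sup_left (N.Zc_normal N.x_mem hg)))
      (Subgroup.zpowers_le.2 (Subgroup.mem_sup_right (Subgroup.mem_zpowers a')))) (Subgroup.zpowers_le.2 ?_)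
    show x * a' * x⁻¹ ∈ A
    rw [← ha'', show a'' = a'⁻¹ * q⁻¹ * p by rw [hp]; group]
    exact mul_mem (mul_mem (inv_mem (Subgroup.mem_sup_right (Subgroup.mem_zpowers a')))
      (inv_mem (Subgroup.mem_sup_left (Subgroup.mem_sup_right (Subgroup.mem_zpowers q)))))
      (Subgroup.mem_sup_left (Subgroup.mem_sup_left (Subgroup.zpowers_le.2 N.zZc hpz)))
  have hAx : ∀ g, g ∈ A → x * g * x⁻¹ ∈ A := fun g hg => hmap hg
  have hAiff : ∀ g, g ∈ A ↔ x * g * x⁻¹ ∈ A := fun g => ⟨hAx g, fun hg => by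
    have := hAx _ (hAx _ hg)
    rwa [show x * (x * (x * g * x⁻¹) * x⁻¹) * x⁻¹ = x ^ 3 * g * (x ^ 3)⁻¹ by simp [pow_succ, mul_assoc], hx3,
      one_mul, inv_one, mul_one] at this⟩
  have hZA : N.Zc ≤ A := le_sup_left.trans le_sup_left
  have hAm := N.card_mod hz A hAQ hAiff
  rw [inf_eq_right.2 (Subgroup.zpowers_le.2 (hZA N.zZc)), Nat.card_zpowers, hz] at hAm
  obtain ⟨k, hk5, hk⟩ := (Nat.dvd_prime_pow Nat.prime_two).1
    (show Nat.card A ∣ 2 ^ 5 by rw [show (2 : ℕ) ^ 5 = Nat.card N.Q by rw [N.card_Q]; norm_num]; exact Subgroup.card_dvd_of_le hAQ)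
  have hlt : 8 < Nat.card A := by
    by_contra hle
    have heq : N.Zc = A := Subgroup.eq_of_le_of_card_ge hZA (by rw [h8]; omega)
    exact hqZ (heq ▸ Subgroup.mem_sup_left (Subgroup.mem_sup_right (Subgroup.mem_zpowers q)))
  have hAeq : A = N.Q := Subgroup.eq_of_le_of_card_ge hAQ (by
    rw [N.card_Q]
    rw [hk] at hlt hAm ⊢
    interval_cases k <;> omega)
  exact hqZ (N.Zc_iff.2 ⟨hq, fun r hr => mem_cz.1 (hAq (hAeq.symm ▸ hr))⟩)

theorem card_Zc_two : Nat.card N.Zc = 2 := by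
  rcases F.card_Zc D hz hC hzv N with h | h
  · exact h
  exfalso
  obtain ⟨q, hq, hq1, hne⟩ := F.theta_sum D hz hC hzv N
  refine hne ?_
  by_cases hqZ : q ∈ N.Zc
  · exact F.zero_center D hz hC hzv N hqZ hq1
  rcases h with h8 | h32
  swap
  · exact absurd ((Subgroup.eq_of_le_of_card_ge (show N.Zc ≤ N.Q from inf_le_left) (by rw [N.card_Q, h32])).symm ▸ hq) hqZ
  have h16 : 16 ∣ Nat.card (cz q) := by
    set B := N.Zc ⊔ Subgroup.zpowers q
    have hBQ : B ≤ N.Q := sup_le inf_le_left (Subgroup.zpowers_le.2 hq)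
    have hBq : B ≤ cz q := sup_le (fun g hg => mem_cz.2 ((N.Zc_iff.1 hg).2 q hq).symm)
      (Subgroup.zpowers_le.2 (mem_cz.2 rfl))
    have h1 : Nat.card N.Zc ∣ Nat.card B := Subgroup.card_dvd_of_le le_sup_left
    have h2 : Nat.card B ∣ 32 := N.card_Q ▸ Subgroup.card_dvd_of_le hBQ
    have hne8 : Nat.card B ≠ 8 := fun e => hqZ ((Subgroup.eq_of_le_of_card_ge (le_sup_left : N.Zc ≤ B)
      (by rw [e, h8])).symm ▸ Subgroup.mem_sup_right (Subgroup.mem_zpowers q))
    refine dvd_trans ?_ (Subgroup.card_dvd_of_le hBq)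
    rw [h8] at h1
    obtain ⟨i, -, hi⟩ := (Nat.dvd_prime_pow (m := 5) Nat.prime_two).1 h2
    have hi3 : 3 ≤ i := by
      by_contra hlt
      have := Nat.le_of_dvd (by positivity) (hi ▸ h1)
      have := Nat.pow_le_pow_right two_pos (show i ≤ 2 by omega)
      omega
    have : i ≠ 3 := fun e => hne8 (by rw [hi, e]; norm_num)
    rw [hi, show 16 = 2 ^ 4 by norm_num]
    exact Nat.pow_dvd_pow 2 (by omega)
  refine F.zero_of_large D hz hC hzv (F.pow_five D hz hC hzv N hq) hq1 h16 (fun h2 => ?_) fun _ n _ => ?_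
  · exact absurd (F.invol_central D hz hC hzv N h8 hq h2) hqZ
  · exact N.card_Q ▸ Subgroup.card_dvd_of_le fun r hr =>
      mem_cz.2 ((N.Zc_iff.1 (pow_mem (F.sq_mem_Zc D hz hC hzv N hq) n)).2 r hr)

theorem extraspecial : Cfsg.IsExtraspecial 2 N.Q := N.extraspecial_of_card hz (F.card_Zc_two D hz hC hzv N)

/-- Some noncentral involution of the kernel has a centralizer order not divisible by 32. -/
theorem exists_small : ∃ q ∈ N.Q, q ≠ z ∧ orderOf q = 2 ∧ ¬ 32 ∣ Nat.card (cz q) := by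
  classical
  obtain ⟨q, hq, hq1, hne⟩ := F.theta_sum D hz hC hzv N
  have hzz := CfsgLib.M12Nse.involution_sq hz
  have hz1 : z ≠ 1 := fun e => by rw [e, orderOf_one] at hz; norm_num at hz
  have hqz : q ≠ z := fun e => hne (e ▸ F.zero_center D hz hC hzv N N.zZc hz1)
  have hZc : N.Zc = Subgroup.zpowers z := (Subgroup.eq_of_le_of_card_ge (Subgroup.zpowers_le.2 N.zZc)
    (by rw [F.card_Zc_two D hz hC hzv N, Nat.card_zpowers, hz])).symm
  have h16 : 16 ∣ Nat.card (cz q) := by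
    let f : N.Q →* Subgroup.zpowers z :=
      { toFun := fun r => ⟨(r : G) * q * (r : G)⁻¹ * q⁻¹, N.comm_mem hz r.2 hq⟩
        map_one' := Subtype.ext (by simp)
        map_mul' := fun r s => Subtype.ext (by
          show (r : G) * s * q * ((r : G) * s)⁻¹ * q⁻¹ = (r : G) * q * (r : G)⁻¹ * q⁻¹ * ((s : G) * q * (s : G)⁻¹ * q⁻¹)
          obtain ⟨i, hi⟩ := Subgroup.mem_zpowers_iff.1 (N.comm_mem hz s.2 hq)
          have hc : ∀ g ∈ N.Q, Commute g ((s : G) * q * (s : G)⁻¹ * q⁻¹) := fun g hg => by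
            rw [← hi]; exact (show Commute g z from mem_cz.1 (N.Q_le hg)).zpow_right i
          calc (r : G) * s * q * ((r : G) * s)⁻¹ * q⁻¹
              = (r : G) * ((s : G) * q * (s : G)⁻¹ * q⁻¹) * (q * (r : G)⁻¹ * q⁻¹) := by group
            _ = ((s : G) * q * (s : G)⁻¹ * q⁻¹) * ((r : G) * q * (r : G)⁻¹ * q⁻¹) := by rw [(hc r r.2).eq]; group
            _ = _ := ((hc _ (mul_mem (mul_mem (mul_mem r.2 hq) (inv_mem r.2)) (inv_mem hq))).eq).symm) }
    have hmul : Nat.card f.ker * Nat.card f.range = 32 := by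
      rw [← Subgroup.index_ker, Subgroup.card_mul_index, N.card_Q]
    have hr : Nat.card f.range ∣ 2 := by
      have := Subgroup.card_subgroup_dvd_card f.range
      rwa [Nat.card_zpowers, hz] at this
    have hk : 16 ∣ Nat.card f.ker := by
      rcases (Nat.dvd_prime Nat.prime_two).1 hr with e | e <;> rw [e] at hmul
      · exact ⟨2, by omega⟩
      · exact ⟨1, by omega⟩
    refine hk.trans ?_
    rw [← Subgroup.card_map_of_injective (K := f.ker) (f := N.Q.subtype) N.Q.subtype_injective]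
    refine Subgroup.card_dvd_of_le ?_
    rintro _ ⟨r, hr', rfl⟩
    have he : (r : G) * q * (r : G)⁻¹ * q⁻¹ = 1 := congrArg Subtype.val (MonoidHom.mem_ker.1 hr')
    exact mem_cz.2 (mul_inv_eq_iff_eq_mul.1 (mul_inv_eq_one.1 he))
  have hzc : 32 ∣ Nat.card (cz z) := by rw [hC]; norm_num
  by_cases h32 : q * q = 1 ∧ ¬ 32 ∣ Nat.card (cz q)
  · exact ⟨q, hq, hqz, orderOf_eq_prime (by rw [pow_two]; exact h32.1) hq1, h32.2⟩
  exfalso
  refine hne (F.zero_of_large D hz hC hzv (F.pow_five D hz hC hzv N hq) hq1 h16 (fun h => ?_) fun h n hn => ?_)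
  · by_contra h'; exact h32 ⟨h, h'⟩
  · have hmem : (q * q) ^ n ∈ Subgroup.zpowers z := hZc ▸ pow_mem (F.sq_mem_Zc D hz hC hzv N hq) n
    rcases CfsgLib.M12Nse.zpowers_two hzz hmem with e | e
    · rw [e, orderOf_one] at hn; norm_num at hn
    · rw [e]; exact hzc

end Frame

end CfsgLib.M12Order
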