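import Cfsg.Agent.M12Order.Cases
import Mathlib.RepresentationTheory.Character
import Mathlib.RingTheory.RootsOfUnity.Complex

/-!
# The centralizer of a central involution: elements of order three and 2-elements

With the degrees of the block known all values on regular elements are integers. The involution `z` from the
centre of a Sylow 2-subgroup has centralizer of order 192, an element of order three there commutes with
only six elements of it, and 2-elements with large centralizers have exceptional value zero.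
-/

set_option autoImplicit false
set_option linter.style.haveILetI false
set_option linter.unusedSectionVars false

namespace CfsgLib.M12Order

open Cfsg Finset CfsgLib.Block CfsgLib.Block.Chr CfsgLib.BrauerPairs CfsgLib.BrauerPrime
open CfsgLib.Cyclic (deg)
open scoped ComplexConjugate

universe u

/-- A character twisted on the powers of an element of order three commuting with a subgroup. -/
theorem twist_sum {G : Type*} [Group G] {χ : G → ℂ} (hχ : Cfsg.IsCharacter G χ) {y : G}
    (hy : y ^ 3 = 1) (E : Subgroup G) [Fintype E] (hc : ∀ e ∈ E, Commute y e) (ω : ℂˣ) (hω : ω ^ 3 = 1) :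
    ∃ n : ℕ, ∑ k : Fin 3, ∑ e : E, (ω : ℂ) ^ (k : ℕ) * χ (y ^ (k : ℕ) * e) = (3 * Nat.card E : ℕ) * (n : ℂ) := by
  classical
  have hmod : ∀ {H : Type _} [Group H] {a : H}, a ^ 3 = 1 → ∀ i j : ZMod 3,
      a ^ (i + j).val = a ^ i.val * a ^ j.val := fun {H} _ {a} ha i j => by
    rw [← pow_add, ZMod.val_add]
    exact (pow_eq_pow_mod _ ha).symm
  let f : Multiplicative (ZMod 3) × E →* G :=
    { toFun := fun p => y ^ (ZMod.val p.1.toAdd) * p.2
      map_one' := by simp
      map_mul' := fun p q => by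
        show y ^ (p.1.toAdd + q.1.toAdd).val * ((p.2 : G) * q.2) =
          y ^ p.1.toAdd.val * p.2 * (y ^ q.1.toAdd.val * q.2)
        rw [hmod hy]
        exact ((hc p.2 p.2.2).pow_left _).mul_mul_mul_comm _ _ }
  let l : Multiplicative (ZMod 3) × E →* ℂˣ :=
    { toFun := fun p => ω ^ (ZMod.val p.1.toAdd)
      map_one' := by simp
      map_mul' := fun p q => by
        show ω ^ (p.1.toAdd + q.1.toAdd).val = ω ^ p.1.toAdd.val * ω ^ q.1.toAdd.val
        rw [← pow_add, ZMod.val_add]
        exact (pow_eq_pow_mod _ hω).symm }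
  have hψ := CfsgLib.Char.IsCharacter.mul
    (CfsgLib.Char.isCharacter_character (CfsgLib.Char.lineRep l)) (CfsgLib.Char.IsCharacter.comp hχ f)
  obtain ⟨m, σ, hσ⟩ := hψ
  haveI : Invertible (Nat.card (Multiplicative (ZMod 3) × E) : ℂ) := invertibleOfNonzero (by
    exact_mod_cast Nat.card_pos.ne')
  have h1 := FDRep.average_char_eq_finrank_invariants (FDRep.of σ)
  have e : ∀ p : Multiplicative (ZMod 3) × E, (FDRep.of σ).character p =
      (ω : ℂ) ^ (ZMod.val p.1.toAdd) * χ (y ^ (ZMod.val p.1.toAdd) * p.2) := fun p => by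
    show σ.character p = _
    rw [hσ, CfsgLib.Char.character_lineRep]
    show ((ω ^ (ZMod.val p.1.toAdd) : ℂˣ) : ℂ) * χ (y ^ (ZMod.val p.1.toAdd) * p.2) = _
    rw [Units.val_pow_eq_pow_val]
  simp only [e] at h1
  rw [inv_mul_eq_iff_eq_mul₀ (by exact_mod_cast Nat.card_pos.ne'), Fintype.sum_prod_type, Nat.card_prod,
    Nat.card_congr Multiplicative.toAdd, Nat.card_zmod] at h1
  exact ⟨_, (Equiv.sum_comp Multiplicative.toAdd
    (fun k : Fin 3 => ∑ e : E, (ω : ℂ) ^ (k : ℕ) * χ (y ^ (k : ℕ) * e))).symm.trans h1⟩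

theorem six_list : ∀ c ∈ divList 6, 192 % c = 0 → c ∈ [6, 12, 24, 48, 96, 192] := by decide +kernel

theorem sixteen_list : ∀ c ∈ divList 16, 192 % c = 0 → c ∈ [16, 32, 48, 64, 96, 192] := by decide +kernel

theorem twelve_list : ∀ c ∈ divList 12, 216 % c = 0 → c ∈ [12, 24, 36, 72, 108, 216] := by decide +kernel

/-- The degrees, without signs. -/
def degN (i : ℕ) : ℕ := ([120, 54, 45, 144, 16] : List ℕ).getD i 0

/-- The vector of degrees. -/
def degV : V := (120, 54, 45, 144, 16)

theorem comp_degV : ∀ i < 5, comp degV i = (degN i : ℤ) := by decide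

namespace Frame

variable {G : Type u} [Group G] [Fintype G]
  [Fact (Nat.Prime 11)] {M : Ideal AlgInt} [M.IsPrime] {S : Sylow 11 G} {x : G}
  {X Y : Finset (IrrCharacter G)} {sg : IrrCharacter G → ℤ} {ε : ℤ} {θ : IrrCharacter G}
  {χa χb χe χf : IrrCharacter G}

/-- The five characters. -/
def chs (χa χb χe χf θ : IrrCharacter G) : ℕ → IrrCharacter G
  | 0 => χa
  | 1 => χb
  | 2 => χe
  | 3 => χf
  | _ => θ

/-- The five values at an element. -/
def AtVec (χa χb χe χf θ : IrrCharacter G) (g : G) (v : V) : Prop :=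
  ∀ i < 5, ((chs χa χb χe χf θ i : IrrCharacter G) : G → ℂ) g = (comp v i : ℂ)

variable (F : Frame X sg ε θ cand0 χa χb χe χf) (D : Dat M S x X Y sg ε θ)

include F D

theorem deg_chs : ∀ i < 5, (degN i : ℤ) = deg (chs χa χb χe χf θ i) := by
  intro i hi
  interval_cases i
  exacts [(F.entryA D).2.2.1, (F.entryB D).2.2.1, (F.entryE D).2.2.1, (F.entryF D).2.2.1, (F.entry_T D).2.2.1]

theorem at_one : AtVec χa χb χe χf θ (1 : G) degV := fun i hi => by
  rw [apply_one_eq, comp_degV i hi, F.deg_chs D i hi]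

/-- All values at regular elements are integers. -/
theorem exists_vec {g : G} (hg : ¬ 11 ∣ orderOf g) : ∃ v, AtVec χa χb χe χf θ g v := by
  obtain ⟨a, ha⟩ := F.uniq_int D F.memA (F.entryA D).2.2.1 (fun _ => rfl) (by simp [cand0]) (by simp [cand0])
    (by simp [cand0]) (by simp [cand0]) (by simp [cand0]) g
  obtain ⟨b, hb⟩ := F.uniq_int D F.memB (F.entryB D).2.2.1 (by simp [cand0]) (fun _ => rfl) (by simp [cand0])
    (by simp [cand0]) (by simp [cand0]) (by simp [cand0]) g
  obtain ⟨e, he⟩ := F.uniq_int D F.memE (F.entryE D).2.2.1 (by simp [cand0]) (by simp [cand0]) (fun _ => rfl)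
    (by simp [cand0]) (by simp [cand0]) (by simp [cand0]) g
  obtain ⟨f, hf⟩ := F.uniq_int D F.memF (F.entryF D).2.2.1 (by simp [cand0]) (by simp [cand0]) (by simp [cand0])
    (fun _ => rfl) (by simp [cand0]) (by simp [cand0]) g
  obtain ⟨t, ht⟩ := F.exc_int D (by simp [cand0]) hg
  refine ⟨(a, b, e, f, t), fun i hi => ?_⟩
  interval_cases i
  exacts [ha, hb, he, hf, ht]

theorem vec_unique {g : G} {v w : V} (h : AtVec χa χb χe χf θ g v) (h' : AtVec χa χb χe χf θ g w) :
    ∀ i < 5, comp v i = comp w i := fun i hi => by exact_mod_cast (h i hi).symm.trans (h' i hi)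

theorem cong {q : ℕ} (hq : q.Prime) {g h : G} (hgh : g ^ q = h) {v w : V} (hv : AtVec χa χb χe χf θ g v)
    (hw : AtVec χa χb χe χf θ h w) : ∀ i < 5, (q : ℤ) ∣ comp w i - comp v i := fun i hi =>
  CfsgLib.InvolValues.int_value_congr hq (isCharacter_irr _) hgh (hv i hi) (hw i hi)

/-- The search at an element. -/
theorem search {g : G} (hg : ¬ 11 ∣ orderOf g) (hg1 : g ≠ 1) {cs : List ℕ} {ok : Ok} {post good : ℕ → V → Bool}
    (h : chk cand0 cs ok post good = true) (hc : Nat.card (cz g) ∈ cs) {v : V} (hv : AtVec χa χb χe χf θ g v)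
    (hok : ∀ i < 5, ok (Nat.card (cz g)) (degN i) i (comp v i) = true)
    (hpost : post (Nat.card (cz g)) v = true) : good (Nat.card (cz g)) v = true := by
  obtain ⟨a, b, e, f, t⟩ := v
  exact chk_sound h hc (F.facts D hg hg1 (hv 0 (by norm_num)) (hv 1 (by norm_num)) (hv 2 (by norm_num))
    (hv 3 (by norm_num)) (hv 4 (by norm_num))) (hok 0 (by norm_num)) (hok 1 (by norm_num)) (hok 2 (by norm_num))
    (hok 3 (by norm_num)) (hok 4 (by norm_num)) hpost

theorem ok_five' {g : G} (hg : ¬ 5 ∣ orderOf g) {v : V} (hv : AtVec χa χb χe χf θ g v) :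
    ∀ i < 5, okFive (Nat.card (cz g)) (degN i) i (comp v i) = true := fun i hi =>
  F.ok_five D (s := (degN i : ℤ)) (by rw [Int.natAbs_natCast]; exact F.deg_chs D i hi) hg (hv i hi) i

theorem ok_four {g : G} (hg : orderOf g = 2) {v : V} (hv : AtVec χa χb χe χf θ g v) :
    ∀ i < 5, okAnd (okDeg 4) okFive (Nat.card (cz g)) (degN i) i (comp v i) = true := fun i hi =>
  F.ok_invol D (s := (degN i : ℤ)) (by rw [Int.natAbs_natCast]; exact F.deg_chs D i hi) hg (hv i hi) i

theorem ok_vec {w v : V} {m : ℤ} (h : ∀ i < 5, m ∣ comp w i - comp v i) :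
    ∀ c d : ℕ, ∀ i < 5, okVec w m c d i (comp v i) = true := fun c d i hi => by
  simp only [okVec, decide_eq_true_eq]
  exact Int.emod_eq_zero_of_dvd (by simpa using (h i hi).neg_right)

theorem ok_deg {v : V} {m : ℤ} (h : ∀ i < 5, m ∣ comp degV i - comp v i) :
    ∀ c : ℕ, ∀ i < 5, okDeg m c (degN i) i (comp v i) = true := fun c i hi => by
  have h1 := h i hi
  rw [comp_degV i hi] at h1
  simp only [okDeg, decide_eq_true_eq]
  exact Int.emod_eq_zero_of_dvd (by simpa using h1.neg_right)

theorem cross' {g h : G} (hg : ¬ 11 ∣ orderOf g) (hg1 : g ≠ 1) (hh : ¬ 11 ∣ orderOf h) {v w : V}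
    (hv : AtVec χa χb χe χf θ g v) (hw : AtVec χa χb χe χf θ h w) :
    postCross cand0 (Nat.card (cz h)) w (Nat.card (cz g)) v = true := by
  obtain ⟨a, b, e, f, t⟩ := v
  obtain ⟨a', b', e', f', t'⟩ := w
  exact F.cross D hg hg1 hh (hv 0 (by norm_num)) (hv 1 (by norm_num)) (hv 2 (by norm_num)) (hv 3 (by norm_num))
    (hv 4 (by norm_num)) (hw 0 (by norm_num)) (hw 1 (by norm_num)) (hw 2 (by norm_num)) (hw 3 (by norm_num))
    (hw 4 (by norm_num))

theorem invol' {g : G} (hg : orderOf g = 2) {v : V} (hv : AtVec χa χb χe χf θ g v) :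
    postInvol cand0 (Nat.card (cz g)) v = true := by
  obtain ⟨a, b, e, f, t⟩ := v
  exact F.invol D hg (hv 0 (by norm_num)) (hv 1 (by norm_num)) (hv 2 (by norm_num)) (hv 3 (by norm_num))
    (hv 4 (by norm_num))

/-- A central involution of a Sylow subgroup. -/
theorem exists_z192 : ∃ z : G, orderOf z = 2 ∧ Nat.card (cz z) = 192 ∧ AtVec χa χb χe χf θ z zVec := by
  obtain ⟨z, hz, hc⟩ := D.exists_z
  have hg : ¬ 11 ∣ orderOf z := by rw [hz]; norm_num
  obtain ⟨v, hv⟩ := F.exists_vec D hg
  have h := F.search D hg (fun h => by rw [h, orderOf_one] at hz; norm_num at hz) cand0_invol hc hv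
    (F.ok_four D hz hv) (F.invol' D hz hv)
  simp only [goodIn, decide_eq_true_eq, List.mem_cons, List.not_mem_nil, or_false, Prod.mk.injEq] at h
  exact ⟨z, hz, h.1, h.2 ▸ hv⟩

variable {z : G} (hz : orderOf z = 2) (hC : Nat.card (cz z) = 192) (hzv : AtVec χa χb χe χf θ z zVec)

include hz hC hzv

theorem z_reg : ¬ 11 ∣ orderOf z := by rw [hz]; norm_num

theorem cross_z {g : G} (hg : ¬ 11 ∣ orderOf g) (hg1 : g ≠ 1) {v : V} (hv : AtVec χa χb χe χf θ g v) :
    postCross cand0 192 zVec (Nat.card (cz g)) v = true := by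
  have := F.cross' D hg hg1 (F.z_reg D hz hC hzv) hv hzv
  rwa [hC] at this

/-- An involution whose centralizer order is divisible by 32 behaves as `z`. -/
theorem invol32 {g : G} (hg : orderOf g = 2) (h32 : 32 ∣ Nat.card (cz g)) :
    Nat.card (cz g) = 192 ∧ (θ : G → ℂ) g = 0 := by
  have hg' : ¬ 11 ∣ orderOf g := by rw [hg]; norm_num
  have hg1 : g ≠ 1 := fun h => by rw [h, orderOf_one] at hg; norm_num at hg
  obtain ⟨v, hv⟩ := F.exists_vec D hg'
  have h := F.search D hg' hg1 local_inv32 (mem_divList (by norm_num) h32 (D.cz_dvd_8640 hg' hg1)) hv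
    (F.ok_four D hg hv) (by simp only [postAnd, F.invol' D hg hv, F.cross_z D hz hC hzv hg' hg1 hv, Bool.and_self])
  simp only [goodIn, decide_eq_true_eq, List.mem_cons, List.not_mem_nil, or_false, Prod.mk.injEq] at h
  refine ⟨h.1, ?_⟩
  have := hv 4 (by norm_num)
  rw [h.2] at this
  simpa [chs, zVec, comp] using this

omit hz hC hzv in
theorem two_parity : ∀ (k : ℕ) {g : G}, g ^ 2 ^ k = 1 → ∀ {v : V}, AtVec χa χb χe χf θ g v →
    ∀ i < 5, (2 : ℤ) ∣ comp degV i - comp v i := by
  intro k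
  induction k with
  | zero =>
    intro g hg v hv i hi
    rw [pow_zero, pow_one] at hg
    subst hg
    rw [F.vec_unique D (F.at_one D) hv i hi, sub_self]
    exact dvd_zero _
  | succ k ih =>
    intro g hg v hv i hi
    rw [pow_succ', pow_mul] at hg
    have h11 : ¬ 11 ∣ orderOf (g ^ 2) := fun h => by
      have h2 := h.trans (orderOf_dvd_of_pow_eq_one hg)
      exact absurd (Nat.prime_eq_prime_of_dvd_pow (m := k) (by norm_num) Nat.prime_two h2) (by norm_num)
    obtain ⟨w, hw⟩ := F.exists_vec D h11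
    have h1 := F.cong D Nat.prime_two rfl hv hw i hi
    have h2 := ih hg hw i hi
    have h3 := dvd_add h1 h2
    push_cast at h1 h3
    rwa [show comp w i - comp v i + (comp degV i - comp w i) = comp degV i - comp v i by ring] at h3

/-- A 2-element whose centralizer order divides 192 and is divisible by 16. -/
theorem two_zero {g : G} {k : ℕ} (hg : g ^ 2 ^ k = 1) (hg1 : g ≠ 1) (h192 : Nat.card (cz g) ∣ 192)
    (h16 : 16 ∣ Nat.card (cz g)) : (θ : G → ℂ) g = 0 := by
  have hg' : ¬ 11 ∣ orderOf g := fun h =>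
    absurd (Nat.prime_eq_prime_of_dvd_pow (m := k) (by norm_num) Nat.prime_two (h.trans (orderOf_dvd_of_pow_eq_one hg)))
      (by norm_num)
  obtain ⟨v, hv⟩ := F.exists_vec D hg'
  have h := F.search D hg' hg1 local_two
    (sixteen_list _ (mem_divList (by norm_num) h16 (D.cz_dvd_8640 hg' hg1)) (Nat.mod_eq_zero_of_dvd h192)) hv
    (F.ok_deg D (F.two_parity D k hg hv) _) (F.cross_z D hz hC hzv hg' hg1 hv)
  simp only [decide_eq_true_eq] at h
  have := hv 4 (by norm_num)
  rw [h] at this
  simpa [chs] using this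

/-- An element of order three of `C(z)` commutes with six elements of it, or the exceptional configuration. -/
theorem three_step {y : G} (hy : orderOf y = 3) (hyz : Commute y z) :
    Nat.card (cz (y * z)) = 6 ∨ (Nat.card (cz (y * z)) = 24 ∧ AtVec χa χb χe χf θ (y * z) (-2, 3, 0, 0, 0) ∧
      Nat.card (cz (y ^ 2)) = 216 ∧ AtVec χa χb χe χf θ (y ^ 2) yVec) := by
  have hz2 : z ^ 2 = 1 := by rw [← hz]; exact pow_orderOf_eq_one z
  have hy3 : y ^ 3 = 1 := by rw [← hy]; exact pow_orderOf_eq_one y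
  have ho : orderOf (y * z) = 6 := by
    rw [hyz.orderOf_mul_eq_mul_orderOf_of_coprime (by rw [hy, hz]; norm_num), hy, hz]
  have hw11 : ¬ 11 ∣ orderOf (y * z) := by rw [ho]; norm_num
  have hw1 : y * z ≠ 1 := fun h => by rw [h, orderOf_one] at ho; norm_num at ho
  have hw3 : (y * z) ^ 3 = z := by rw [hyz.mul_pow, hy3, one_mul, pow_succ, hz2, one_mul]
  have hw2 : (y * z) ^ 2 = y ^ 2 := by rw [hyz.mul_pow, hz2, mul_one]
  have h6 : 6 ∣ Nat.card (cz (y * z)) := ho ▸ Subgroup.orderOf_dvd_natCard _ (mem_cz.2 rfl)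
  have h192 : Nat.card (cz (y * z)) ∣ 192 := hC ▸ Subgroup.card_dvd_of_le fun g hg => mem_cz.2 (by
    rw [← hw3]; exact ((show Commute g (y * z) from mem_cz.1 hg).pow_right 3).eq)
  obtain ⟨v, hv⟩ := F.exists_vec D hw11
  have h := F.search D hw11 hw1 local_w
    (six_list _ (mem_divList (by norm_num) h6 (D.cz_dvd_8640 hw11 hw1)) (Nat.mod_eq_zero_of_dvd h192)) hv
    (fun i hi => F.ok_vec D (m := 3) (F.cong D Nat.prime_three hw3 hv hzv) _ _ i hi)
    (F.cross_z D hz hC hzv hw11 hw1 hv)
  simp only [goodIn, decide_eq_true_eq, List.mem_cons, List.not_mem_nil, or_false, Prod.mk.injEq] at h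
  have hy2o : orderOf (y ^ 2) = 3 := by rw [orderOf_pow' _ (by norm_num), hy]; rfl
  have hg11 : ¬ 11 ∣ orderOf (y ^ 2) := by rw [hy2o]; norm_num
  have hg1 : y ^ 2 ≠ 1 := fun h => by rw [h, orderOf_one] at hy2o; norm_num at hy2o
  obtain ⟨u, hu⟩ := F.exists_vec D hg11
  have hsub : Nat.card (cz (y * z)) ∣ Nat.card (cz (y ^ 2)) := Subgroup.card_dvd_of_le fun g hg => mem_cz.2 (by
    rw [← hw2]; exact ((show Commute g (y * z) from mem_cz.1 hg).pow_right 2).eq)
  have main : ∀ {k : ℕ}, 0 < k → Nat.card (cz (y * z)) = k → ∀ {w : V}, AtVec χa χb χe χf θ (y * z) w →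
      ∀ {good : ℕ → V → Bool}, chk cand0 (divList k) (okAnd (okDeg 3) (okAnd okFive (okVec w 2)))
        (postCross cand0 192 zVec) good = true → good (Nat.card (cz (y ^ 2))) u = true := by
    intro k hk hk' w hw good hchk
    refine F.search D hg11 hg1 hchk (mem_divList hk (hk' ▸ hsub) (D.cz_dvd_8640 hg11 hg1)) hu (fun i hi => ?_)
      (F.cross_z D hz hC hzv hg11 hg1 hu)
    refine okAnd_eq (F.ok_deg D (fun j hj => ?_) _ i hi) (okAnd_eq (F.ok_five' D (by rw [hy2o]; norm_num) hu i hi) ?_)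
    · exact F.cong D Nat.prime_three (by rw [← pow_mul, show 2 * 3 = 3 * 2 by norm_num, pow_mul, hy3, one_pow]) hu
        (F.at_one D) j hj
    · refine F.ok_vec D (m := 2) (fun j hj => ?_) _ _ i hi
      have := F.cong D Nat.prime_two hw2 hw hu j hj
      rw [← Int.dvd_neg, neg_sub]
      exact_mod_cast this
  rcases h with h | h | h | h
  · exact Or.inl h.1
  · right
    have := main (k := 24) (by norm_num) h.1 (h.2 ▸ hv) local_y24
    simp only [goodIn, decide_eq_true_eq, List.mem_cons, List.not_mem_nil, or_false, Prod.mk.injEq] at this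
    exact ⟨h.1, h.2 ▸ hv, this.1, this.2 ▸ hu⟩
  · have := main (k := 48) (by norm_num) h.1 (h.2 ▸ hv) local_y48
    simp [goodNone] at this
  · have := main (k := 192) (by norm_num) h.1 (h.2 ▸ hv) local_y192
    simp [goodNone] at this

omit hz hC hzv in
theorem cz_sq {y : G} (hy : y ^ 3 = 1) : cz (y ^ 2) = cz y := by
  ext g
  refine ⟨fun h => mem_cz.2 ?_, fun h => mem_cz.2 ((show Commute g y from mem_cz.1 h).pow_right 2).eq⟩
  have h' := ((show Commute g (y ^ 2) from mem_cz.1 h).pow_right 2).eq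
  rwa [← pow_mul, show 2 * 2 = 3 + 1 by norm_num, pow_succ, hy, one_mul] at h'

omit hz hC hzv in
theorem cz_mul {y z : G} (hy : y ^ 3 = 1) (hz : z ^ 2 = 1) (h : Commute y z) : cz (y * z) = cz y ⊓ cz z := by
  ext g
  refine ⟨fun hg => ⟨?_, ?_⟩, fun hg => mem_cz.2 ((show Commute g y from mem_cz.1 hg.1).mul_right (mem_cz.1 hg.2)).eq⟩
  · have h4 : (y * z) ^ 4 = y := by
      rw [h.mul_pow, show z ^ 4 = 1 by rw [show 4 = 2 * 2 by norm_num, pow_mul, hz, one_pow], mul_one, pow_succ, hy, one_mul]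
    exact mem_cz.2 (h4 ▸ ((show Commute g (y * z) from mem_cz.1 hg).pow_right 4).eq)
  · have h3 : (y * z) ^ 3 = z := by rw [h.mul_pow, hy, one_mul, pow_succ, hz, one_mul]
    exact mem_cz.2 (h3 ▸ ((show Commute g (y * z) from mem_cz.1 hg).pow_right 3).eq)

/-- An element of order three of `C(z)` commutes with only six elements of it. -/
theorem three_six {y : G} (hy : orderOf y = 3) (hyz : Commute y z) : Nat.card (cz (y * z)) = 6 := by
  classical
  haveI : Fact (Nat.Prime 2) := ⟨Nat.prime_two⟩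
  refine (F.three_step D hz hC hzv hy hyz).resolve_right ?_
  rintro ⟨h24, hw, h216', hu'⟩
  have hy3 : y ^ 3 = 1 := by rw [← hy]; exact pow_orderOf_eq_one y
  have hz2 : z ^ 2 = 1 := by rw [← hz]; exact pow_orderOf_eq_one z
  have hy2o : orderOf (y ^ 2) = 3 := by rw [orderOf_pow' _ (by norm_num), hy]; rfl
  have hy4 : (y ^ 2) ^ 2 = y := by rw [← pow_mul, show 2 * 2 = 3 + 1 by norm_num, pow_succ, hy3, one_mul]
  have hy23 : (y ^ 2) ^ 3 = 1 := by rw [← pow_mul, show 2 * 3 = 3 * 2 by norm_num, pow_mul, hy3, one_pow]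
  have hcy : cz (y ^ 2 * z) = cz (y * z) := by
    rw [F.cz_mul D hy23 hz2 (hyz.pow_left 2), F.cz_mul D hy3 hz2 hyz, F.cz_sq D hy3]
  obtain ⟨-, hw', h216, hu⟩ := (F.three_step D hz hC hzv hy2o (hyz.pow_left 2)).resolve_left (by rw [hcy, h24]; norm_num)
  rw [hy4] at h216 hu
  -- a subgroup of order four containing `z` and commuting with `y`
  set H := cz (y * z) with hH
  have hzH : z ∈ H := mem_cz.2 ((hyz.symm.mul_right (Commute.refl z)).eq)
  obtain ⟨E', hE', hzE'⟩ := Sylow.exists_subgroup_card_pow_succ (p := 2) (n := 1) (G := H) (by rw [h24]; norm_num)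
    (H := Subgroup.zpowers ⟨z, hzH⟩) (by rw [Nat.card_zpowers, Subgroup.orderOf_mk, hz, pow_one])
  set E := E'.map H.subtype with hEdef
  have hE : Nat.card E = 4 := by
    rw [hEdef, Subgroup.card_map_of_injective H.subtype_injective, hE']; norm_num
  have hzE : z ∈ E := ⟨⟨z, hzH⟩, hzE' (Subgroup.mem_zpowers _), rfl⟩
  have hEH : ∀ e ∈ E, Commute y e ∧ Commute z e := fun e he => by
    have h1 : e ∈ cz y ⊓ cz z := F.cz_mul D hy3 hz2 hyz ▸ (Subgroup.map_subtype_le _ he : e ∈ H)
    exact ⟨(mem_cz.1 h1.1).symm, (mem_cz.1 h1.2).symm⟩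
  have hab : ∀ a ∈ E, ∀ b ∈ E, Commute a b := fun a ha b hb => by
    have := IsPGroup.isMulCommutative_of_card_eq_prime_sq (p := 2) (G := E) (by rw [hE]; norm_num)
    exact congrArg Subtype.val (this.is_comm.comm ⟨a, ha⟩ ⟨b, hb⟩)
  have hy11 : ¬ 11 ∣ orderOf y := by rw [hy]; norm_num
  -- the value of the character of degree 45
  have key : ∀ (s : G), (s = y ∨ s = y ^ 2) → ∀ e ∈ E,
      (χe : G → ℂ) (s * e) = if e = 1 then (-6 : ℂ) else 0 := by
    intro s hs e he
    have hsd : AtVec χa χb χe χf θ s yVec ∧ Nat.card (cz s) = 216 ∧ AtVec χa χb χe χf θ (s * z) (-2, 3, 0, 0, 0) ∧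
        orderOf s = 3 ∧ (∀ e ∈ E, Commute s e) := by
      rcases hs with rfl | rfl
      · exact ⟨hu, h216, hw, hy, fun e he => (hEH e he).1⟩
      · exact ⟨hu', h216', hw', hy2o, fun e he => (hEH e he).1.pow_left 2⟩
    obtain ⟨hsv, hs216, hswv, hso, hsE⟩ := hsd
    by_cases he1 : e = 1
    · rw [if_pos he1, he1, mul_one]; simpa [chs, yVec, comp] using hsv 2 (by norm_num)
    rw [if_neg he1]
    by_cases hez : e = z
    · rw [hez]; simpa [chs, comp] using hswv 2 (by norm_num)
    have hse := hsE e he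
    have he4 : e ^ 4 = 1 := by
      have := pow_card_eq_one' (x := (⟨e, he⟩ : E))
      rw [hE] at this
      exact congrArg Subtype.val this
    have hs3 : s ^ 3 = 1 := by rw [← hso]; exact pow_orderOf_eq_one s
    have hg4 : (s * e) ^ 4 = s := by rw [hse.mul_pow, he4, mul_one, pow_succ, hs3, one_mul]
    have hg11 : ∀ k : ℕ, ¬ 11 ∣ orderOf ((s * e) ^ k) := fun k h => by
      have h12 : (s * e) ^ 12 = 1 := by
        rw [show 12 = 4 * 3 by norm_num, pow_mul, hg4, hs3]
      have := (h.trans (orderOf_pow_dvd k)).trans (orderOf_dvd_of_pow_eq_one h12)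
      norm_num at this
    have hg11' : ¬ 11 ∣ orderOf (s * e) := by simpa using hg11 1
    have hg1 : s * e ≠ 1 := fun h => by
      rw [h, one_pow] at hg4
      rw [← hg4, orderOf_one] at hso; norm_num at hso
    have h12 : 12 ∣ Nat.card (cz (s * e)) := by
      have h3 : 3 ∣ Nat.card (cz (s * e)) := hso ▸ Subgroup.orderOf_dvd_natCard _
        (mem_cz.2 ((Commute.refl s).mul_right hse).eq)
      have h4 : 4 ∣ Nat.card (cz (s * e)) := hE ▸ Subgroup.card_dvd_of_le fun a ha =>
        mem_cz.2 ((hsE a ha).symm.mul_right (hab a ha e he)).eq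
      exact Nat.Coprime.mul_dvd_of_dvd_of_dvd (by norm_num : Nat.Coprime 3 4) h3 h4
    have hle : Nat.card (cz (s * e)) ∣ 216 := hs216 ▸ Subgroup.card_dvd_of_le fun g hg =>
      mem_cz.2 (hg4 ▸ ((show Commute g (s * e) from mem_cz.1 hg).pow_right 4).eq)
    obtain ⟨v, hv⟩ := F.exists_vec D hg11'
    obtain ⟨v2, hv2⟩ := F.exists_vec D (hg11 2)
    have hmod : ∀ i < 5, (2 : ℤ) ∣ comp yVec i - comp v i := fun i hi => by
      have h1 := F.cong D Nat.prime_two rfl hv hv2 i hi
      have h2 := F.cong D Nat.prime_two (show ((s * e) ^ 2) ^ 2 = s by rw [← pow_mul]; exact hg4) hv2 hsv i hi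
      have := dvd_add h2 h1
      push_cast at this
      rwa [sub_add_sub_cancel] at this
    have h := F.search D hg11' hg1 local_ye
      (twelve_list _ (mem_divList (by norm_num) h12 (D.cz_dvd_8640 hg11' hg1)) (Nat.mod_eq_zero_of_dvd hle)) hv
      (fun i hi => F.ok_vec D (m := 2) hmod _ _ i hi) (F.cross_z D hz hC hzv hg11' hg1 hv)
    simp only [goodIn, decide_eq_true_eq, List.mem_cons, List.not_mem_nil, or_false, Prod.mk.injEq] at h
    have hve : (χe : G → ℂ) (s * e) = (comp v 2 : ℂ) := hv 2 (by norm_num)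
    rw [hve]
    suffices hnot : Nat.card (cz (s * e)) ≠ 216 by
      rcases h with h | h | h
      · rw [h.2]; simp [comp]
      · exact absurd h.1 hnot
      · exact absurd h.1 hnot
    intro hg216
    by_cases he2 : e ^ 2 = 1
    · have heo : orderOf e = 2 := orderOf_eq_prime he2 he1
      have he11 : ¬ 11 ∣ orderOf e := by rw [heo]; norm_num
      have hge : (s * e) ^ 3 = e := by rw [hse.mul_pow, hs3, one_mul, pow_succ, he2, one_mul]
      have he216 : 216 ∣ Nat.card (cz e) := hg216 ▸ Subgroup.card_dvd_of_le fun g hg =>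
        mem_cz.2 (hge ▸ ((show Commute g (s * e) from mem_cz.1 hg).pow_right 3).eq)
      obtain ⟨ve, hve'⟩ := F.exists_vec D he11
      have h5 := F.search D he11 he1 local_inv216 (mem_divList (by norm_num) he216 (D.cz_dvd_8640 he11 he1)) hve'
        (F.ok_four D heo hve') (F.invol' D heo hve')
      simp only [decide_eq_true_eq] at h5
      have := F.cong D Nat.prime_three hge hv hve' 2 (by norm_num)
      rw [h5] at this
      rcases h with h | h | h
      · omega
      all_goals (rw [h.2] at this; norm_num [comp, yVec] at this)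
    · have hezp : e ^ 2 = z := by
        have h2 : orderOf (e ^ 2) = 2 := orderOf_eq_prime (by rw [← pow_mul]; exact he4) he2
        have hcard : Nat.card (Subgroup.zpowers e) = 4 := by
          rw [Nat.card_zpowers]
          exact orderOf_eq_prime_pow (p := 2) (n := 1) (by simpa using he2) (by simpa using he4)
        have hze : z ∈ Subgroup.zpowers e := by
          rw [Subgroup.eq_of_le_of_card_ge (Subgroup.zpowers_le.2 he) (by rw [hcard, hE])]; exact hzE
        obtain ⟨k, hk, hk'⟩ : ∃ k, k < 4 ∧ e ^ k = z := by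
          obtain ⟨k, hk⟩ := mem_zpowers_iff_mem_range_orderOf.1 hze |> Finset.mem_image.1
          exact ⟨k, by have := Finset.mem_range.1 hk.1; rw [Nat.card_zpowers] at hcard; omega, hk.2⟩
        interval_cases k
        · rw [pow_zero] at hk'; rw [← hk', orderOf_one] at hz; norm_num at hz
        · exact absurd (by simpa using hk') hez
        · exact hk'
        · exfalso
          rw [← hk', show (2 : ℕ) = 2 from rfl] at hz
          have : (e ^ 3) ^ 2 = 1 := by rw [← hz]; exact pow_orderOf_eq_one _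
          rw [← pow_mul, show 3 * 2 = 4 + 2 by norm_num, pow_add, he4, one_mul] at this
          exact he2 this
      have hcz : cz (s * e) ≤ cz z := fun g hg => by
        have h6 : (s * e) ^ 6 = z := by
          rw [hse.mul_pow, show 6 = 3 * 2 by norm_num, pow_mul, hs3, one_pow, one_mul,
            show 3 * 2 = 4 + 2 by norm_num, pow_add, he4, one_mul, hezp]
        exact mem_cz.2 (h6 ▸ ((show Commute g (s * e) from mem_cz.1 hg).pow_right 6).eq)
      have := Subgroup.card_dvd_of_le hcz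
      rw [hg216, hC] at this
      norm_num at this
  -- the two twisted sums
  haveI := Fintype.ofFinite E
  obtain ⟨ω, hω⟩ : ∃ ω : ℂ, IsPrimitiveRoot ω 3 := ⟨_, Complex.isPrimitiveRoot_exp 3 (by norm_num)⟩
  obtain ⟨n, hn⟩ := twist_sum (isCharacter_irr χe) hy3 E (fun e he => (hEH e he).1) 1 (one_pow 3)
  obtain ⟨m, hm⟩ := twist_sum (isCharacter_irr χe) hy3 E (fun e he => (hEH e he).1) (Units.mk0 ω (hω.ne_zero (by norm_num)))
    (Units.ext (by simp [hω.pow_eq_one]))
  have hsum : ∀ s, (s = y ∨ s = y ^ 2) → ∑ e : E, (χe : G → ℂ) (s * e) = -6 := fun s hs => by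
    rw [sum_congr rfl fun (e : E) _ => key s hs e e.2, Finset.sum_eq_single (1 : E)]
    · simp
    · intro e _ he; rw [if_neg]; simpa using he
    · simp
  have hgeom : ω + ω ^ 2 = -1 := by
    have h := hω.geom_sum_eq_zero (by norm_num)
    simp only [Finset.sum_range_succ, Finset.sum_range_zero, zero_add, pow_zero, pow_one] at h
    linear_combination h
  simp only [Fin.sum_univ_three, Fin.val_zero, Fin.val_one, Fin.val_two, pow_zero, pow_one, one_mul, one_pow,
    Units.val_one, Units.val_mk0, ← mul_sum, hsum y (Or.inl rfl), hsum (y ^ 2) (Or.inr rfl), hE] at hn hm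
  push_cast at hn hm
  have h18 : (18 : ℂ) = 12 * (m : ℂ) - 12 * (n : ℂ) := by linear_combination hm - hn + 6 * hgeom
  have h18' : (18 : ℤ) = 12 * (m : ℤ) - 12 * (n : ℤ) := by exact_mod_cast h18
  omega

end Frame

end CfsgLib.M12Order
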