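import Cfsg.Agent.M12Order.Kernel
import Cfsg.Agent.C192.Setup
import Cfsg.Agent.C192.KindBad
import Cfsg.Agent.C192.Kind00
import Cfsg.Agent.C192.T10
import Cfsg.Agent.C192.T11

/-!
# Simple groups of order 95040 are isomorphic to the Mathieu group

Of the four types of centralizer of order 192 two admit no fusion of the central involution and one has
every involution of the normal subgroup of order 32 centralized by 32 elements.
-/

set_option autoImplicit false
set_option linter.style.haveILetI false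
set_option linter.unusedSectionVars false
set_option maxRecDepth 100000

namespace CfsgLib.M12Order

open CfsgLib.Coset

/-- The nodes of the normal subgroup of order 32 for the third type. -/
def nQ0 : List Nat := [0, 1, 2, 3, 4, 8, 9, 10, 68, 70, 72, 74, 78, 80, 82, 84, 104, 106, 112, 114, 118, 120, 126,
  128, 133, 136, 142, 145, 160, 162, 166, 168]

/-- The involutions lie in the normal subgroup of order 32. -/
theorem invols01 : ((List.range 192).all fun i =>
    !(CfsgLib.C192.invB CfsgLib.C192.T01.m i) || CfsgLib.C192.nQ1.contains i) = true := by decide +kernel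

/-- The involutions lie in the normal subgroup of order 32. -/
theorem invols11 : ((List.range 192).all fun i =>
    !(CfsgLib.C192.invB CfsgLib.C192.T11.m i) || CfsgLib.C192.nQ1.contains i) = true := by decide +kernel

theorem hQ10 : nQ0.contains 0 = true ∧ CfsgLib.C192.closB CfsgLib.C192.T10.m nQ0 = true ∧
    CfsgLib.C192.invsB CfsgLib.C192.T10.m nQ0 = true ∧
    (nQ0.all fun i => Nat.beq i 8 || !(CfsgLib.C192.invB CfsgLib.C192.T10.m i) ||
      Nat.beq (CfsgLib.C192.cen CfsgLib.C192.T10.m i).length 32) = true := by decide +kernel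

theorem hletters10 : follow (tget CfsgLib.C192.T10.Tb) 0 [0] = 1 ∧ follow (tget CfsgLib.C192.T10.Tb) 0 [4, 0, 5] = 68 ∧
    follow (tget CfsgLib.C192.T10.Tb) 0 [2] = 3 ∧ follow (tget CfsgLib.C192.T10.Tb) 0 [4, 2, 5] = 72 := by
  decide +kernel

/-- A simple group of order 95040 is isomorphic to the Mathieu group. -/
theorem isoM12 {G : Type*} [Group G] [Finite G] (hs : IsSimpleGroup G) (hcard : Nat.card G = 95040) :
    Cfsg.Spor.IsoM12 G := by
  classical
  haveI := hs
  haveI := Fintype.ofFinite G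
  haveI : Fact (Nat.Prime 2) := ⟨Nat.prime_two⟩
  obtain ⟨_, M, _, S, x, X, Y, sg, ε, θ, D⟩ := exists_dat hcard
  obtain ⟨χa, χb, χe, χf, F⟩ := D.exists_frame0
  obtain ⟨z, hz, hC, hzv⟩ := F.exists_z192 D
  obtain ⟨N⟩ := F.exists_nine D hz hC hzv
  have hX : N.Q ⊓ Subgroup.centralizer (((N.sylow : Subgroup (cz z)).map (cz z).subtype : Subgroup G) : Set G) =
      Subgroup.zpowers z := by
    refine le_antisymm (fun q hq => N.fixQ hq.1 ?_) (Subgroup.zpowers_le.2 ⟨N.zQ, Subgroup.mem_centralizer_iff.2 ?_⟩)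
    · exact (Subgroup.mem_centralizer_iff.1 hq.2 _ ⟨N.x, N.gen ▸ Subgroup.mem_zpowers N.x, rfl⟩).symm
    · rintro _ ⟨g, -, rfl⟩
      exact mem_cz.1 g.2
  obtain ⟨sw, sq, L, hlen, hrel, hgen, hcC, hzL, hQL⟩ :=
    CfsgLib.C192.exists_data z hz (cz z) rfl N.θ.ker N.kerCard N.Q rfl (F.extraspecial D hz hC hzv N) N.θ N.surj rfl
      N.sylow hX
  have hF : CfsgLib.M12U.Fused z := CfsgLib.M12U.fused_of_simple (not_comm hcard)
  have hfuse : ∃ g : G, Commute z (g * z * g⁻¹) ∧ g * z * g⁻¹ ≠ z := by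
    by_contra hcon
    push Not at hcon
    exact hF ⟨hz, hcon⟩
  obtain ⟨g, hgc, hgne⟩ := hfuse
  have hgo : orderOf (g * z * g⁻¹) = 2 := by rw [← MulAut.conj_apply, MulEquiv.orderOf_eq, hz]
  cases sw <;> cases sq
  · rcases CfsgLib.C192.T00.classify hF hlen hrel hgen hcC hzL with ⟨K, hK, -, -, h8, -⟩ | h
    · exfalso
      rcases hK.eq_bot_or_eq_top with rfl | rfl
      · rw [Subgroup.card_bot] at h8; norm_num at h8
      · rw [Subgroup.card_top, hcard] at h8; norm_num at h8
    · exact h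
  · exfalso
    have C := CfsgLib.C192.T01.cod hlen hrel hgen hcC hzL
    obtain ⟨_, hS, -, hb⟩ := CfsgLib.C192.T01.hQ
    simp only [CfsgLib.C192.closB, List.all_eq_true, Bool.and_eq_true, Nat.blt_eq] at hS
    obtain ⟨i, hi, hinv, he⟩ := C.invol_node hgc.eq.symm hgo
    have hiQ : i ∈ CfsgLib.C192.nQ1 := by
      have := List.all_eq_true.1 invols01 i (List.mem_range.2 hi)
      simpa [hinv] using this
    exact hgne (C.no_conj hz hb ⟨i, hiQ, he⟩ (fun j hj => (hS j hj).1) (isConj_iff.2 ⟨g, rfl⟩))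
  · exfalso
    have C := CfsgLib.C192.T10.cod hlen hrel hgen hcC hzL
    obtain ⟨q, hq, hqz, hqo, h32⟩ := F.exists_small D hz hC hzv N
    obtain ⟨h0, hS, hi, hcen⟩ := hQ10
    obtain ⟨w1, w2, w3, w4⟩ := hletters10
    obtain ⟨j, hj, rfl⟩ := C.closure_nodes h0 hS hi (fun y hy => by
      simp only [Set.mem_insert_iff, Set.mem_singleton_iff] at hy
      rcases hy with rfl | rfl | rfl | rfl
      exacts [⟨1, by decide, (CfsgLib.C192.T10.word hlen hrel (by decide) w1).2⟩,
        ⟨68, by decide, (CfsgLib.C192.T10.word hlen hrel (by decide) w2).2⟩,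
        ⟨3, by decide, (CfsgLib.C192.T10.word hlen hrel (by decide) w3).2⟩,
        ⟨72, by decide, (CfsgLib.C192.T10.word hlen hrel (by decide) w4).2⟩]) (hQL hq)
    simp only [CfsgLib.C192.closB, List.all_eq_true, Bool.and_eq_true, Nat.blt_eq] at hS
    have hjlt := (hS j hj).1
    have h2 := (C.ord_iff hjlt).1 hqo
    have hlen32 := List.all_eq_true.1 hcen j hj
    simp only [Bool.or_eq_true, Nat.beq_eq, Bool.not_eq_true', h2, Bool.true_eq_false, or_false] at hlen32
    rcases hlen32 with e | e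
    · exact hqz (e ▸ C.zeq.symm)
    refine h32 ?_
    rw [← e, ← C.card_cent2 hjlt]
    let K : Subgroup G := cz z ⊓ cz (ev L (CfsgLib.J2U.pathW CfsgLib.C192.T10.Par 12 j))
    refine (dvd_of_eq ?_).trans (Subgroup.card_dvd_of_le (show K ≤ cz (ev L (CfsgLib.J2U.pathW CfsgLib.C192.T10.Par 12 j))
      from inf_le_right))
    exact Nat.card_congr (Equiv.subtypeEquivRight fun y => by rw [Subgroup.mem_inf, mem_cz, mem_cz])
  · exfalso
    have C := CfsgLib.C192.T11.cod hlen hrel hgen hcC hzL
    obtain ⟨_, hS, -, hb⟩ := CfsgLib.C192.T11.hQ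
    simp only [CfsgLib.C192.closB, List.all_eq_true, Bool.and_eq_true, Nat.blt_eq] at hS
    obtain ⟨i, hi, hinv, he⟩ := C.invol_node hgc.eq.symm hgo
    have hiQ : i ∈ CfsgLib.C192.nQ1 := by
      have := List.all_eq_true.1 invols11 i (List.mem_range.2 hi)
      simpa [hinv] using this
    exact hgne (C.no_conj hz hb ⟨i, hiQ, he⟩ (fun j hj => (hS j hj).1) (isConj_iff.2 ⟨g, rfl⟩))

end CfsgLib.M12Order
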