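import Cfsg.Agent.M12Order.Check

/-!
# Soundness of the search
-/

set_option autoImplicit false

namespace CfsgLib.M12Order

theorem force_eq {α : Type} (n : ℕ) (k : ℕ → α) : force n k = k n := by
  cases n <;> rfl

theorem forceL_eq {α : Type} (l : List ℕ) (k : List ℕ → α) : forceL l k = k l := by
  induction l generalizing k with
  | nil => rfl
  | cons x xs ih => rw [forceL, force_eq, ih]

theorem allF_true {l : List ℕ} {f : ℕ → Bool} (h : allF l f = true) {x : ℕ} (hx : x ∈ l) : f x = true := by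
  induction l with
  | nil => simp at hx
  | cons y ys ih =>
    rw [allF, Bool.and_eq_true, force_eq] at h
    rcases List.mem_cons.1 hx with rfl | hx
    exacts [h.1, ih h.2 hx]

theorem ble_of_le {a b : ℕ} (h : a ≤ b) : Nat.ble a b = true := by rwa [Nat.ble_eq]

theorem blt_of_lt {a b : ℕ} (h : a < b) : Nat.blt a b = true := by rwa [Nat.blt_eq]

/-- The shift of an integer. -/
def shiftW (v : ℤ) : ℕ := (v + 93).toNat

theorem cast_shiftW {v : ℤ} (h1 : -93 ≤ v) : ((shiftW v : ℕ) : ℤ) = v + 93 := by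
  unfold shiftW; omega

theorem shiftW_spec {v : ℤ} (h : v * v ≤ 8640) :
    shiftW v < 187 ∧ toV (shiftW v) = v ∧ ((absW (shiftW v) : ℕ) : ℤ) = |v| ∧ ((sq (shiftW v) : ℕ) : ℤ) = v * v := by
  have h1 : -93 ≤ v := by nlinarith
  have h2 : v ≤ 93 := by nlinarith
  have h3 := cast_shiftW h1
  have h4 : ((absW (shiftW v) : ℕ) : ℤ) = |v| := by
    unfold absW
    rcases le_total 0 v with hv | hv
    · rw [abs_of_nonneg hv]; omega
    · rw [abs_of_nonpos hv]; omega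
  refine ⟨by omega, by unfold toV; omega, h4, ?_⟩
  rw [sq, Nat.cast_mul, h4]
  rcases abs_choice v with h5 | h5 <;> rw [h5]
  ring

theorem sw_cast {v : ℤ} (h : v * v ≤ 8640) (s : ℤ) :
    ((sw (Cand.pos s) (shiftW v) : ℕ) : ℤ) = Cand.sgn s * v + 93 := by
  have h1 : -93 ≤ v := by nlinarith
  have h2 : v ≤ 93 := by nlinarith
  have h3 := cast_shiftW h1
  cases s with
  | ofNat n => simp [sw, Cand.pos, Cand.sgn, h3]
  | negSucc n => simp only [sw, Cand.pos, Cand.sgn, cond_false]; omega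

theorem sw_back {f : ℤ} (h : f * f ≤ 8640) (s : ℤ) {u : ℕ} (hu : (u : ℤ) = Cand.sgn s * f + 93) :
    sw (Cand.pos s) u = shiftW f := by
  have h1 : -93 ≤ f := by nlinarith
  have h2 : f ≤ 93 := by nlinarith
  have h3 := cast_shiftW h1
  cases s with
  | ofNat n => simp only [sw, Cand.pos, cond_true, Cand.sgn] at hu ⊢; omega
  | negSucc n => simp only [sw, Cand.pos, cond_false, Cand.sgn] at hu ⊢; omega

theorem sgn_cases (s : ℤ) : Cand.sgn s = 1 ∨ Cand.sgn s = -1 := by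
  cases s <;> simp [Cand.sgn]

theorem rel_nat {x y z w : ℕ} {P Q R T σ f : ℤ} (hx : (x : ℤ) = P + 93) (hy : (y : ℤ) = Q + 93)
    (hz : (z : ℤ) = R + 93) (hw : (w : ℤ) = T + 93) (hf : f * f ≤ 8640) (hσ : σ = 1 ∨ σ = -1)
    (hrel : T = 1 + P + Q + R + σ * f) :
    1 + x + y + z ≤ w + 279 ∧ w + 279 - (1 + x + y + z) ≤ 186 ∧
      ((w + 279 - (1 + x + y + z) : ℕ) : ℤ) = σ * f + 93 := by
  have h1 : -93 ≤ f := by nlinarith
  have h2 : f ≤ 93 := by nlinarith
  rcases hσ with rfl | rfl <;> omega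

theorem sum_nat {S C k w c : ℕ} {A t : ℤ} (hS : (S : ℤ) = A + C) (hw : (w : ℤ) = t + 93) (h0 : 0 ≤ A)
    (h1 : 0 ≤ A - 11 * ((k : ℤ) * t)) (hd : A % (11 * (c : ℤ)) = 0) :
    C ≤ S ∧ (S - C) % (11 * c) = 0 ∧ C + 11 * (k * w) ≤ S + 1023 * k := by
  have hCS : C ≤ S := by omega
  refine ⟨hCS, ?_, ?_⟩
  · have h2 : (((S - C) % (11 * c) : ℕ) : ℤ) = 0 := by
      push_cast [hCS]
      rw [show (S : ℤ) - C = A by omega]
      exact hd
    exact_mod_cast h2
  · have h2 : ((k * w : ℕ) : ℤ) = (k : ℤ) * t + 93 * (k : ℤ) := by push_cast; rw [hw]; ring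
    omega

theorem shiftW_lb {v : ℤ} (h : v * v ≤ 8640) : -93 ≤ v := by nlinarith

theorem norm_bounds {c : ℕ} {a b e f t : ℤ} (hc : c ≤ 8640)
    (h : 1 + a * a + b * b + e * e + f * f + 2 * (t * t) ≤ (c : ℤ)) :
    (a * a ≤ (c : ℤ) ∧ b * b ≤ (c : ℤ) ∧ e * e ≤ (c : ℤ) ∧ f * f ≤ (c : ℤ) ∧ t * t ≤ (c : ℤ)) ∧
    (a * a ≤ 8640 ∧ b * b ≤ 8640 ∧ e * e ≤ 8640 ∧ f * f ≤ 8640 ∧ t * t ≤ 8640) ∧
    1 + 2 * (t * t) ≤ (c : ℤ) ∧ 1 + 2 * (t * t) + a * a ≤ (c : ℤ) ∧
    (1 + 2 * (t * t) + a * a + b * b ≤ (c : ℤ) ∧ 1 + 2 * (t * t) + a * a + b * b + e * e + f * f ≤ (c : ℤ)) := by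
  have h1 : (c : ℤ) ≤ 8640 := by exact_mod_cast hc
  have := mul_self_nonneg a
  have := mul_self_nonneg b
  have := mul_self_nonneg e
  have := mul_self_nonneg f
  have := mul_self_nonneg t
  refine ⟨⟨?_, ?_, ?_, ?_, ?_⟩, ⟨?_, ?_, ?_, ?_, ?_⟩, ?_, ?_, ?_, ?_⟩ <;> linarith

/-- The facts at an element that the search uses. -/
structure Facts (p : Cand) (c : ℕ) (a b e f t : ℤ) : Prop where
  cle : c ≤ 8640
  norm : 1 + a * a + b * b + e * e + f * f + 2 * (t * t) ≤ (c : ℤ)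
  lt1 : |a| < (p.s1.natAbs : ℤ)
  lt2 : |b| < (p.s2.natAbs : ℤ)
  lt3 : |e| < (p.s3.natAbs : ℤ)
  lt4 : |f| < (p.s4.natAbs : ℤ)
  lt5 : |t| < (p.st.natAbs : ℤ)
  rel : Cand.sgn p.st * t = 1 + Cand.sgn p.s1 * a + Cand.sgn p.s2 * b + Cand.sgn p.s3 * e + Cand.sgn p.s4 * f
  dvdA : (p.A (a, b, e, f, t)) % (11 * (c : ℤ)) = 0
  dvdT : (Cand.K p.st : ℤ) * t % (c : ℤ) = 0
  nonnegA : 0 ≤ p.A (a, b, e, f, t)
  nonnegA' : 0 ≤ p.A (a, b, e, f, t) - 11 * ((Cand.K p.st : ℤ) * t)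
  nonnegQ : 0 ≤ p.Q (a, b, e, f, t) (a, b, e, f, t)
  dvdQ : p.Q (a, b, e, f, t) (a, b, e, f, t) % ((c : ℤ) * (c : ℤ)) = 0

set_option maxHeartbeats 1000000 in
/-- The search finds every solution. -/
theorem chk_sound {p : Cand} {cs : List ℕ} {ok : Ok} {post good : ℕ → V → Bool}
    (h : chk p cs ok post good = true) {c : ℕ} (hc : c ∈ cs) {a b e f t : ℤ} (F : Facts p c a b e f t)
    (o1 : ok c p.s1.natAbs 0 a = true) (o2 : ok c p.s2.natAbs 1 b = true) (o3 : ok c p.s3.natAbs 2 e = true)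
    (o4 : ok c p.s4.natAbs 3 f = true) (o5 : ok c p.st.natAbs 4 t = true)
    (hp : post c (a, b, e, f, t) = true) : good c (a, b, e, f, t) = true := by
  obtain ⟨⟨na, nb, ne', nf, nt⟩, ⟨ba, bb, be, bf, bt⟩, n1, n2, n3⟩ := norm_bounds F.cle F.norm
  obtain ⟨a1, a2, a3, a4⟩ := shiftW_spec ba
  obtain ⟨b1, b2, b3, b4⟩ := shiftW_spec bb
  obtain ⟨e1, e2, e3, e4⟩ := shiftW_spec be
  obtain ⟨f1, f2, f3, f4⟩ := shiftW_spec bf
  obtain ⟨t1, t2, t3, t4⟩ := shiftW_spec bt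
  have la := cast_shiftW (shiftW_lb ba)
  have lb := cast_shiftW (shiftW_lb bb)
  have le' := cast_shiftW (shiftW_lb be)
  have lf := cast_shiftW (shiftW_lb bf)
  have lt' := cast_shiftW (shiftW_lb bt)
  have hnt : 1 + 2 * sq (shiftW t) ≤ c := by zify; rw [t4]; exact n1
  have hna : Nat.ble (1 + 2 * sq (shiftW t) + sq (shiftW a)) c = true := by
    rw [Nat.ble_eq]; zify; rw [t4, a4]; exact n2
  have hnb : Nat.ble (1 + 2 * sq (shiftW t) + sq (shiftW a) + sq (shiftW b)) c = true := by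
    rw [Nat.ble_eq]; zify; rw [t4, a4, b4]; exact n3.1
  have hfin : 1 + 2 * sq (shiftW t) + sq (shiftW a) + sq (shiftW b) + sq (shiftW e) + sq (shiftW f) ≤ c := by
    zify; rw [t4, a4, b4, e4, f4]; exact n3.2
  simp only [chk, force_eq, forceL_eq] at h
  have hmem : ∀ {v : ℤ} {d i : ℕ}, shiftW v < 187 → toV (shiftW v) = v → ((absW (shiftW v) : ℕ) : ℤ) = |v| →
      ((sq (shiftW v) : ℕ) : ℤ) = v * v → |v| < (d : ℤ) → v * v ≤ (c : ℤ) → ok c d i v = true →
      shiftW v ∈ wl c d i ok := by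
    intro v d i h1 h2 h3 h4 h5 h6 h7
    simp only [wl, List.mem_filter, List.mem_range, Bool.and_eq_true, Nat.ble_eq, Nat.blt_eq, h2, h7, and_true]
    exact ⟨h1, by omega, by omega⟩
  have ht : shiftW t ∈ wt c p.st.natAbs (Cand.K p.st) ok := by
    simp only [wt, List.mem_filter, List.mem_range, Bool.and_eq_true, Nat.ble_eq, Nat.blt_eq, Nat.beq_eq, t2, o5, and_true]
    have hlt := F.lt5
    refine ⟨t1, ⟨?_, by omega⟩, ?_⟩
    · exact hnt
    · have h1 : (c : ℤ) ∣ (Cand.K p.st : ℤ) * |t| := by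
        have h2 := Int.dvd_of_emod_eq_zero F.dvdT
        rcases abs_choice t with h3 | h3 <;> rw [h3]
        · exact h2
        · rw [mul_neg]; exact Int.dvd_neg.2 h2
      rw [← t3, ← Nat.cast_mul] at h1
      exact Nat.mod_eq_zero_of_dvd (by exact_mod_cast h1)
  replace h := allF_true h hc
  beta_reduce at h
  replace h := allF_true h ht
  beta_reduce at h
  replace h := allF_true h (hmem a1 a2 a3 a4 F.lt1 na o1)
  beta_reduce at h
  rw [Bool.or_eq_true] at h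
  replace h := allF_true (h.resolve_left (by rw [hna]; decide)) (hmem b1 b2 b3 b4 F.lt2 nb o2)
  beta_reduce at h
  rw [Bool.or_eq_true] at h
  have h0 := allF_true (h.resolve_left (by rw [hnb]; decide)) (hmem e1 e2 e3 e4 F.lt3 ne' o3)
  beta_reduce at h0
  have w1 := sw_cast ba p.s1
  have w2 := sw_cast bb p.s2
  have w3 := sw_cast be p.s3
  have w4 := sw_cast bf p.s4
  have w5 := sw_cast bt p.st
  have hrel := F.rel
  obtain ⟨hm, hm2, hu⟩ := rel_nat w1 w2 w3 w5 bf (sgn_cases p.s4) hrel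
  have hf := sw_back bf p.s4 hu
  rw [hf] at h0
  have hS : ((8640 + (Cand.K p.s1 * shiftW a + Cand.K p.s2 * shiftW b + Cand.K p.s3 * shiftW e + Cand.K p.s4 * shiftW f +
      6 * (Cand.K p.st * shiftW t)) : ℕ) : ℤ) = p.A (a, b, e, f, t) +
      ((93 * (Cand.K p.s1 + Cand.K p.s2 + Cand.K p.s3 + Cand.K p.s4 + 6 * Cand.K p.st) : ℕ) : ℤ) := by
    push_cast
    rw [la, lb, le', lf, lt']
    simp only [Cand.A]
    ring
  obtain ⟨hCS, hmod, hle⟩ := sum_nat (k := Cand.K p.st) (w := shiftW t) hS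
    lt' F.nonnegA F.nonnegA' F.dvdA
  have hf4 : absW (shiftW f) < p.s4.natAbs := by have := F.lt4; omega
  simpa [ble_of_le hm, ble_of_le hm2, ble_of_le hfin, blt_of_lt hf4, ble_of_le hCS, hmod, ble_of_le hle,
    a2, b2, e2, f2, t2, o4, hp, F.nonnegQ, F.dvdQ, decide_eq_true_iff] using h0

/-- The facts used by the search with one pair of values known by its sum. -/
structure LinFacts (c cz : ℕ) (zv zs zw zt v w t : ℤ) : Prop where
  cle : c ≤ 8640
  norm : 2 * (1 + v * v + w * w + 2 * (t * t)) + (1 + v - w - t) * (1 + v - w - t) ≤ 2 * (c : ℤ)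
  dvdT : 320 * t % (c : ℤ) = 0
  dvdA : (8640 + 60 * v + 270 * (1 + v - w - t) + 160 * w + 1920 * t) % (11 * (c : ℤ)) = 0
  nonnegQ : 0 ≤ 8640 + 60 * v * zv - 270 * (1 + v - w - t) * zs - 160 * w * zw - 320 * t * zt
  dvdQ : (8640 + 60 * v * zv - 270 * (1 + v - w - t) * zs - 160 * w * zw - 320 * t * zt) % ((c : ℤ) * (cz : ℤ)) = 0

/-- The search finds every solution, one pair of values being known by its sum. -/
theorem lin_sound {cs : List ℕ} {ok : ℤ → ℤ → ℤ → Bool} {cz : ℕ} {zv zs zw zt : ℤ}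
    {good : ℕ → ℤ → ℤ → ℤ → Bool} (h : lin cs ok cz zv zs zw zt good = true) {c : ℕ} (hc : c ∈ cs) {v w t : ℤ}
    (F : LinFacts c cz zv zs zw zt v w t) (ho : ok v w t = true) : good c v w t = true := by
  have hn := F.norm
  have := mul_self_nonneg (1 + v - w - t)
  have := mul_self_nonneg v
  have := mul_self_nonneg w
  have := mul_self_nonneg t
  have hc8 : (c : ℤ) ≤ 8640 := by exact_mod_cast F.cle
  have nv : v * v ≤ (c : ℤ) := by linarith
  have nw : w * w ≤ (c : ℤ) := by linarith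
  have nt : 1 + 2 * (t * t) ≤ (c : ℤ) := by linarith
  have nt' : t * t ≤ (c : ℤ) := by linarith
  obtain ⟨v1, v2, v3, v4⟩ := shiftW_spec (v := v) (by linarith)
  obtain ⟨w1, w2, w3, w4⟩ := shiftW_spec (v := w) (by linarith)
  obtain ⟨t1, t2, t3, t4⟩ := shiftW_spec (v := t) (by linarith)
  have hv : sq (shiftW v) ≤ c := by zify; rw [v4]; exact nv
  have hw : sq (shiftW w) ≤ c := by zify; rw [w4]; exact nw
  have ht : sq (shiftW t) ≤ c := by zify; rw [t4]; exact nt'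
  have ht2 : 1 + 2 * sq (shiftW t) ≤ c := by zify; rw [t4]; exact nt
  have ht3 : 320 * absW (shiftW t) % c = 0 := by
    refine Nat.mod_eq_zero_of_dvd (Int.natCast_dvd_natCast.1 ?_)
    push_cast
    rw [t3]
    have h2 := Int.dvd_of_emod_eq_zero F.dvdT
    rcases abs_choice t with h3 | h3 <;> rw [h3]
    · exact h2
    · rw [mul_neg]; exact Int.dvd_neg.2 h2
  simp only [lin, forceL_eq] at h
  replace h := allF_true h hc
  beta_reduce at h
  replace h := allF_true (allF_true (allF_true h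
      (x := shiftW t) (by simp [List.mem_filter, t1, ble_of_le ht, ble_of_le ht2, ht3]))
    (x := shiftW v) (by simp [List.mem_filter, v1, ble_of_le hv]))
    (x := shiftW w) (by simp [List.mem_filter, w1, ble_of_le hw])
  simpa [v2, w2, t2, ho, F.norm, F.dvdA, F.nonnegQ, F.dvdQ,
    not_lt.2 (sub_nonneg.1 F.nonnegQ)] using h

end CfsgLib.M12Order
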