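import Cfsg.Agent.M12Order.Blk
import Cfsg.Agent.M12Order.Sound
import Cfsg.Agent.Char.Burnside
import Cfsg.Agent.Char.GaloisTwist
import Cfsg.Agent.Blocks.DefectZeroVanish
import Cfsg.Agent.SmallSimple.InvolValues

/-!
# The values of the block at regular elements

With the signed degrees of the block fixed, class multiplication constants, congruences, Galois conjugation
and defect zero at the prime five give the facts that the search uses.
-/

set_option autoImplicit false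
set_option linter.style.haveILetI false
set_option linter.unusedSectionVars false

namespace CfsgLib.M12Order

open Cfsg Finset CfsgLib.Block CfsgLib.Block.Chr CfsgLib.BrauerPairs CfsgLib.BrauerPrime
open CfsgLib.Cyclic (deg)
open scoped ComplexConjugate

universe u

variable {G : Type u} [Group G] [Fintype G]

/-- The signed degrees of the block. -/
structure Frame [Fact (Nat.Prime 11)] (X : Finset (IrrCharacter G)) (sg : IrrCharacter G → ℤ) (ε : ℤ)
    (θ : IrrCharacter G) (p : Cand) (χa χb χe χf : IrrCharacter G) : Prop where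
  sum : ∀ {α : Type} [AddCommMonoid α] (f : IrrCharacter G → α),
    ∑ χ ∈ X, f χ = f (trivIrr G) + f χa + f χb + f χe + f χf
  cases : ∀ χ ∈ X, χ = trivIrr G ∨ χ = χa ∨ χ = χb ∨ χ = χe ∨ χ = χf
  memA : χa ∈ X
  memB : χb ∈ X
  memE : χe ∈ X
  memF : χf ∈ X
  degA : sg χa * deg χa = p.s1
  degB : sg χb * deg χb = p.s2
  degE : sg χe * deg χe = p.s3
  degF : sg χf * deg χf = p.s4
  degT : ε * deg θ = p.st
  good : ∀ s ∈ [p.s1, p.s2, p.s3, p.s4, p.st], 8640 % s.natAbs = 0 ∧ 6 ≤ s.natAbs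

theorem signed {s d σ : ℤ} (hσ : σ = 1 ∨ σ = -1) (hd : 0 < d) (h : σ * d = s) :
    Cand.sgn s = σ ∧ (s.natAbs : ℤ) = d := by
  rcases hσ with rfl | rfl
  · obtain ⟨n, rfl⟩ : ∃ n : ℕ, s = n := ⟨s.toNat, by omega⟩
    refine ⟨rfl, by omega⟩
  · obtain ⟨n, rfl⟩ : ∃ n : ℕ, s = Int.negSucc n := ⟨(-s).toNat - 1, by omega⟩
    exact ⟨rfl, by omega⟩

namespace Dat

variable [Fact (Nat.Prime 11)] {M : Ideal AlgInt} [M.IsPrime] {S : Sylow 11 G} {x : G}
  {X Y : Finset (IrrCharacter G)} {sg : IrrCharacter G → ℤ} {ε : ℤ} {θ : IrrCharacter G}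
  (D : Dat M S x X Y sg ε θ)

include D

theorem not_dvd_cz {g : G} (hg : ¬ 11 ∣ orderOf g) (hg1 : g ≠ 1) : ¬ 11 ∣ Nat.card (cz g) := by
  intro h
  obtain ⟨⟨k, hk⟩, hk11⟩ := exists_prime_orderOf_dvd_card' (G := cz g) 11 h
  rw [Subgroup.orderOf_mk] at hk11
  have hP : Nat.card (Subgroup.zpowers k) = 11 ^ (Nat.card G).factorization 11 := by
    rw [Nat.card_zpowers, hk11, ← Sylow.card_eq_multiplicity S, D.setup.cardP]
  obtain ⟨a, ha⟩ := MulAction.exists_smul_eq G S (Sylow.ofCard (Subgroup.zpowers k) hP)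
  have hkS : a⁻¹ * k * a ∈ (S : Subgroup G) := by
    have h1 : k ∈ ((a • S : Sylow 11 G) : Subgroup G) := by rw [ha]; exact Subgroup.mem_zpowers k
    rw [Sylow.coe_subgroup_smul, Subgroup.mem_pointwise_smul_iff_inv_smul_mem] at h1
    simpa [MulAut.smul_def] using h1
  rw [← D.zpowers_x] at hkS
  have hk' : orderOf (a⁻¹ * k * a) = 11 := by
    rw [show a⁻¹ * k * a = MulAut.conj a⁻¹ k by simp, MulEquiv.orderOf_eq, hk11]
  have hx : x ∈ Subgroup.zpowers (a⁻¹ * k * a) := by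
    rw [Subgroup.eq_of_le_of_card_ge (Subgroup.zpowers_le.2 hkS)
      (by rw [Nat.card_zpowers, Nat.card_zpowers, hk', D.orderOf_x])]
    exact Subgroup.mem_zpowers x
  obtain ⟨i, hi⟩ := Subgroup.mem_zpowers_iff.1 hx
  have hc : Commute (a⁻¹ * g * a) (a⁻¹ * k * a) := by
    show a⁻¹ * g * a * (a⁻¹ * k * a) = a⁻¹ * k * a * (a⁻¹ * g * a)
    rw [show a⁻¹ * g * a * (a⁻¹ * k * a) = a⁻¹ * (g * k) * a by group,
      show a⁻¹ * k * a * (a⁻¹ * g * a) = a⁻¹ * (k * g) * a by group, mem_cz.1 hk]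
  have hgx : a⁻¹ * g * a ∈ cz x := mem_cz.2 (by rw [← hi]; exact (hc.zpow_right i).eq)
  have h1 := D.eq_one_of_mem hgx (by rwa [show a⁻¹ * g * a = MulAut.conj a⁻¹ g by simp, MulEquiv.orderOf_eq])
  exact hg1 (by rw [show g = a * (a⁻¹ * g * a) * a⁻¹ by group, h1, mul_one, mul_inv_cancel])

theorem cz_dvd_8640 {g : G} (hg : ¬ 11 ∣ orderOf g) (hg1 : g ≠ 1) : Nat.card (cz g) ∣ 8640 := by
  have h := Subgroup.card_subgroup_dvd_card (cz g)
  rw [D.card, show (95040 : ℕ) = 11 * 8640 by norm_num] at h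
  exact (Nat.Coprime.dvd_of_dvd_mul_left
    ((Nat.Prime.coprime_iff_not_dvd (by norm_num)).2 (D.not_dvd_cz hg hg1)).symm h)

theorem nontriv {χ : IrrCharacter G} (h : deg χ ≠ 1) : χ ≠ trivIrr G := fun e => h (e ▸ deg_trivIrr)

/-- A value of absolute value equal to the degree only occurs at the identity. -/
theorem norm_lt {χ : IrrCharacter G} (h : deg χ ≠ 1) {g : G} (hg : g ≠ 1) : ‖(χ : G → ℂ) g‖ < (deg χ : ℝ) := by
  haveI := D.simple
  have hle : ‖(χ : G → ℂ) g‖ ≤ (deg χ : ℝ) := by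
    have := CfsgLib.Char.IsCharacter.norm_apply_le (isCharacter_irr χ) g
    rw [(irr_one χ).1, Complex.natCast_re] at this
    exact_mod_cast this
  refine lt_of_le_of_ne hle fun he => ?_
  obtain ⟨m, ρ, hρ, hρχ⟩ := χ.2
  have hm : deg χ = (m : ℤ) := by
    have h1 := (irr_one χ).1
    rw [← congrFun hρχ 1, Representation.char_one, Module.finrank_fin_fun] at h1
    show (charDegree (χ : G → ℂ) : ℤ) = m
    exact_mod_cast h1.symm
  have hn : ‖ρ.character g‖ = (Module.finrank ℂ (Fin m → ℂ) : ℝ) := by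
    rw [hρχ, he, hm, Module.finrank_fin_fun]; norm_num
  have h1 := congrFun (CfsgLib.Char.eq_one_of_norm_eq_of_simple (fun hc => not_comm D.card ⟨⟨hc⟩⟩) ρ hg hn) 1
  rw [Representation.char_one, Module.finrank_fin_fun] at h1
  exact h (by rw [hm]; exact_mod_cast h1)

theorem abs_lt_of_eq {χ : IrrCharacter G} (h : deg χ ≠ 1) {g : G} (hg : g ≠ 1) {v : ℤ}
    (hv : (χ : G → ℂ) g = v) : |v| < deg χ := by
  have := D.norm_lt h hg
  rw [hv, Complex.norm_intCast] at this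
  exact_mod_cast this

/-- Degrees divisible by five give characters of defect zero. -/
theorem five_zero {χ : IrrCharacter G} (h : (5 : ℤ) ∣ deg χ) {g : G} (hg : 5 ∣ orderOf g) : (χ : G → ℂ) g = 0 := by
  refine eq_zero_of_defectZero (by norm_num) χ ?_ hg
  rw [D.card, show (95040 : ℕ).factorization 5 = 1 by
    rw [show (95040 : ℕ) = 5 * 19008 by norm_num, Nat.factorization_mul (by norm_num) (by norm_num)]
    simp [Nat.factorization_eq_zero_of_not_dvd (show ¬ 5 ∣ 19008 by norm_num), Nat.prime_five], pow_one]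
  exact Int.natCast_dvd_natCast.1 (by exact_mod_cast h)

/-- If five divides the centralizer order, a degree divisible by five gives a value divisible by five. -/
theorem five_dvd_value {χ : IrrCharacter G} (h : (5 : ℤ) ∣ deg χ) {g : G} (hg : ¬ 5 ∣ orderOf g)
    (hc : 5 ∣ Nat.card (cz g)) {v : ℤ} (hv : (χ : G → ℂ) g = v) : (5 : ℤ) ∣ v := by
  haveI : Fact (Nat.Prime 5) := ⟨by norm_num⟩
  obtain ⟨⟨y, hy⟩, hy5⟩ := exists_prime_orderOf_dvd_card' (G := cz g) 5 hc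
  rw [Subgroup.orderOf_mk] at hy5
  have hcop : Nat.Coprime 5 (orderOf g) := (Nat.Prime.coprime_iff_not_dvd (by norm_num)).2 hg
  obtain ⟨k, hk⟩ := exists_pow_eq_self_of_coprime (x := g) hcop
  rw [← pow_mul] at hk
  have hcom : Commute y g := mem_cz.1 hy
  have hcop2 : (orderOf y).Coprime (orderOf (g ^ k)) := by
    rw [hy5]
    exact (Nat.Prime.coprime_iff_not_dvd (by norm_num)).2 fun h' => hg (h'.trans (orderOf_pow_dvd k))
  have hh : 5 ∣ orderOf (y * g ^ k) := by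
    rw [(hcom.pow_right k).orderOf_mul_eq_mul_orderOf_of_coprime hcop2, hy5]
    exact Dvd.intro _ rfl
  have hpow : (y * g ^ k) ^ 5 = g := by
    rw [(hcom.pow_right k).mul_pow, ← pow_mul, mul_comm k 5, hk,
      show y ^ 5 = 1 by rw [← hy5]; exact pow_orderOf_eq_one y, one_mul]
  have := CfsgLib.InvolValues.int_value_congr (p := 5) (by norm_num) (isCharacter_irr χ) hpow
    (a := 0) (by rw [D.five_zero h hh, Int.cast_zero]) hv
  simpa using this

/-- A nonexceptional member alone with its degree has integral values. -/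
theorem int_of_unique {χ : IrrCharacter G} (hχ : χ ∈ X) (hu : ∀ χ' ∈ X, deg χ' = deg χ → χ' = χ)
    (hθ : deg θ ≠ deg χ) (g : G) : ∃ v : ℤ, (χ : G → ℂ) g = v := by
  refine CfsgLib.Char.exists_int_of_fixed (CfsgLib.Char.IsCharacter.isIntegral (isCharacter_irr χ) g) fun σ => ?_
  let χ' : IrrCharacter G := ⟨_, CfsgLib.Char.IsIrrCharacter.map_ringEquiv χ.2 σ⟩
  have hdeg : deg χ' = deg χ := by
    have h1 := (irr_one χ').1
    rw [show (χ' : G → ℂ) 1 = σ ((χ : G → ℂ) 1) from rfl, (irr_one χ).1, map_natCast] at h1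
    show (charDegree (χ' : G → ℂ) : ℤ) = charDegree (χ : G → ℂ)
    exact_mod_cast h1.symm
  have hne : (χ' : G → ℂ) x ≠ 0 := by
    show σ ((χ : G → ℂ) x) ≠ 0
    rw [D.valX hχ, map_intCast]
    rcases D.blk.sign χ hχ with h | h <;> rw [h] <;> norm_num
  by_cases hX : χ' ∈ X
  · exact congrFun (congrArg Subtype.val (hu χ' hX hdeg)) g
  · by_cases hY : χ' ∈ Y
    · exact absurd ((D.blk.deg_agree hY D.θY).symm.trans hdeg) hθ
    · exact absurd (D.outside_zero hX hY).1 hne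

/-- An exceptional degree not occurring in `X` gives integral values on regular elements. -/
theorem int_exc (hθ : ∀ χ ∈ X, deg χ ≠ deg θ) {g : G} (hg : ¬ 11 ∣ orderOf g) :
    ∃ v : ℤ, (θ : G → ℂ) g = v := by
  obtain ⟨θ₀, hθ₀, hne⟩ : ∃ θ₀ ∈ Y, (θ₀ : G → ℂ) x ≠ 0 := exists_ne_zero_of_sum_ne_zero (by
    rw [D.sum_exc]; rcases D.eps_cases with h | h <;> rw [h] <;> norm_num)
  refine CfsgLib.Char.exists_int_of_fixed (CfsgLib.Char.IsCharacter.isIntegral (isCharacter_irr θ) g) fun σ => ?_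
  let χ' : IrrCharacter G := ⟨_, CfsgLib.Char.IsIrrCharacter.map_ringEquiv θ₀.2 σ⟩
  have hdeg : deg χ' = deg θ₀ := by
    have h1 := (irr_one χ').1
    rw [show (χ' : G → ℂ) 1 = σ ((θ₀ : G → ℂ) 1) from rfl, (irr_one θ₀).1, map_natCast] at h1
    show (charDegree (χ' : G → ℂ) : ℤ) = charDegree (θ₀ : G → ℂ)
    exact_mod_cast h1.symm
  have hne' : (χ' : G → ℂ) x ≠ 0 := fun h => hne (σ.injective (h.trans (map_zero σ).symm))
  by_cases hX : χ' ∈ X
  · exact absurd (hdeg.trans (D.blk.deg_agree hθ₀ D.θY)) (hθ χ' hX)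
  · by_cases hY : χ' ∈ Y
    · rw [← D.agree hθ₀ hg]
      exact (D.agree hY hg).trans (D.agree hθ₀ hg).symm
    · exact absurd (D.outside_zero hX hY).1 hne'

end Dat

namespace Frame

variable [Fact (Nat.Prime 11)] {M : Ideal AlgInt} [M.IsPrime] {S : Sylow 11 G} {x : G}
  {X Y : Finset (IrrCharacter G)} {sg : IrrCharacter G → ℤ} {ε : ℤ} {θ : IrrCharacter G}
  {p : Cand} {χa χb χe χf : IrrCharacter G}

/-- The form of the block, times 8640. -/
noncomputable def qC (p : Cand) (θ χa χb χe χf : IrrCharacter G) (g h : G) : ℂ :=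
  8640 + (Cand.sgn p.s1 * Cand.K p.s1 : ℤ) * ((χa : G → ℂ) g * (χa : G → ℂ) h) +
    (Cand.sgn p.s2 * Cand.K p.s2 : ℤ) * ((χb : G → ℂ) g * (χb : G → ℂ) h) +
    (Cand.sgn p.s3 * Cand.K p.s3 : ℤ) * ((χe : G → ℂ) g * (χe : G → ℂ) h) +
    (Cand.sgn p.s4 * Cand.K p.s4 : ℤ) * ((χf : G → ℂ) g * (χf : G → ℂ) h) -
    (Cand.sgn p.st * Cand.K p.st : ℤ) * ((θ : G → ℂ) g * (θ : G → ℂ) h)

/-- The sum for pairs of elements of order eleven, times 8640. -/
noncomputable def aC (p : Cand) (θ χa χb χe χf : IrrCharacter G) (g : G) : ℂ :=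
  8640 + (Cand.K p.s1 : ℂ) * conj ((χa : G → ℂ) g) + (Cand.K p.s2 : ℂ) * conj ((χb : G → ℂ) g) +
    (Cand.K p.s3 : ℂ) * conj ((χe : G → ℂ) g) + (Cand.K p.s4 : ℂ) * conj ((χf : G → ℂ) g) +
    6 * ((Cand.K p.st : ℂ) * conj ((θ : G → ℂ) g))

variable (F : Frame X sg ε θ p χa χb χe χf) (D : Dat M S x X Y sg ε θ)

include F D

theorem entry_X {χ : IrrCharacter G} (hχ : χ ∈ X) {s : ℤ} (hs : sg χ * deg χ = s)
    (hg : 8640 % s.natAbs = 0 ∧ 6 ≤ s.natAbs) :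
    Cand.sgn s = sg χ ∧ deg χ ≠ 1 ∧ (s.natAbs : ℤ) = deg χ ∧ (Cand.K s : ℂ) = 8640 / (χ : G → ℂ) 1 := by
  obtain ⟨h1, h2⟩ := signed (D.blk.sign χ hχ) (deg_pos χ) hs
  refine ⟨h1, by omega, h2, ?_⟩
  rw [apply_one_eq, ← h2, Cand.K, Nat.cast_div (Nat.dvd_of_mod_eq_zero hg.1) (by norm_num; omega)]
  norm_num

theorem entry_T :
    Cand.sgn p.st = ε ∧ deg θ ≠ 1 ∧ (p.st.natAbs : ℤ) = deg θ ∧ (Cand.K p.st : ℂ) = 8640 / (θ : G → ℂ) 1 := by
  have hg := F.good p.st (by simp)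
  obtain ⟨h1, h2⟩ := signed D.eps_cases (deg_pos θ) F.degT
  refine ⟨h1, by omega, h2, ?_⟩
  rw [apply_one_eq, ← h2, Cand.K, Nat.cast_div (Nat.dvd_of_mod_eq_zero hg.1) (by norm_num; omega)]
  norm_num

theorem entryA : Cand.sgn p.s1 = sg χa ∧ deg χa ≠ 1 ∧ (p.s1.natAbs : ℤ) = deg χa ∧
    (Cand.K p.s1 : ℂ) = 8640 / (χa : G → ℂ) 1 :=
  F.entry_X D F.memA F.degA (F.good p.s1 (by simp))

theorem entryB : Cand.sgn p.s2 = sg χb ∧ deg χb ≠ 1 ∧ (p.s2.natAbs : ℤ) = deg χb ∧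
    (Cand.K p.s2 : ℂ) = 8640 / (χb : G → ℂ) 1 :=
  F.entry_X D F.memB F.degB (F.good p.s2 (by simp))

theorem entryE : Cand.sgn p.s3 = sg χe ∧ deg χe ≠ 1 ∧ (p.s3.natAbs : ℤ) = deg χe ∧
    (Cand.K p.s3 : ℂ) = 8640 / (χe : G → ℂ) 1 :=
  F.entry_X D F.memE F.degE (F.good p.s3 (by simp))

theorem entryF : Cand.sgn p.s4 = sg χf ∧ deg χf ≠ 1 ∧ (p.s4.natAbs : ℤ) = deg χf ∧
    (Cand.K p.s4 : ℂ) = 8640 / (χf : G → ℂ) 1 :=
  F.entry_X D F.memF F.degF (F.good p.s4 (by simp))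


theorem bil_eq (g h : G) : Dat.bil X sg ε θ g h = qC p θ χa χb χe χf g h / 8640 := by
  obtain ⟨a1, -, -, a3⟩ := F.entryA D
  obtain ⟨b1, -, -, b3⟩ := F.entryB D
  obtain ⟨e1, -, -, e3⟩ := F.entryE D
  obtain ⟨f1, -, -, f3⟩ := F.entryF D
  obtain ⟨t1, -, -, t3⟩ := F.entry_T D
  unfold Dat.bil qC
  rw [F.sum, trivIrr_apply, trivIrr_apply, trivIrr_apply, D.blk.sgTriv, a1, b1, e1, f1, t1]
  push_cast
  rw [a3, b3, e3, f3, t3]
  ring

theorem cross_count {g h : G} (hg : ¬ 11 ∣ orderOf g) (hh : ¬ 11 ∣ orderOf h) (hg1 : g ≠ 1) :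
    ∃ m : ℕ, qC p θ χa χb χe χf g h = (m : ℂ) * ((Nat.card (cz g) : ℂ) * (Nat.card (cz h) : ℂ)) ∧
      Nat.card {q : G × G // IsConj g q.1 ∧ IsConj h q.2 ∧ q.1 * q.2 = x} = 11 * m := by
  obtain ⟨m, hm⟩ := D.eleven_dvd (b := h) hg hg1
  refine ⟨m, ?_, hm⟩
  have hn := D.count_ab hg hh
  rw [hm, F.bil_eq D, CfsgLib.Char.card_conj_class, CfsgLib.Char.card_conj_class] at hn
  have ig : ((cz g).index : ℂ) * (Nat.card (cz g) : ℂ) = 95040 := by
    exact_mod_cast (Subgroup.index_mul_card (cz g)).trans D.card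
  have ih : ((cz h).index : ℂ) * (Nat.card (cz h) : ℂ) = 95040 := by
    exact_mod_cast (Subgroup.index_mul_card (cz h)).trans D.card
  push_cast at hn
  calc qC p θ χa χb χe χf g h = (((cz g).index : ℂ) * (Nat.card (cz g) : ℂ)) *
        (((cz h).index : ℂ) * (Nat.card (cz h) : ℂ)) / 95040 / 95040 * qC p θ χa χb χe χf g h := by
        rw [ig, ih]; norm_num
    _ = ((cz g).index : ℂ) * ((cz h).index : ℂ) / 95040 * (qC p θ χa χb χe χf g h / 8640) *
        ((Nat.card (cz g) : ℂ) * (Nat.card (cz h) : ℂ)) / 11 := by ring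
    _ = _ := by rw [← hn]; ring

/-- An involution is never the first factor of two conjugate factors of `x`. -/
theorem invol_zero {g : G} (hg : orderOf g = 2) : qC p θ χa χb χe χf g g = 0 := by
  have h11 : ¬ 11 ∣ orderOf g := by rw [hg]; norm_num
  have hg1 : g ≠ 1 := fun h => by rw [h, orderOf_one] at hg; norm_num at hg
  obtain ⟨m, hm, hcard⟩ := F.cross_count D h11 h11 hg1
  suffices h : Nat.card {q : G × G // IsConj g q.1 ∧ IsConj g q.2 ∧ q.1 * q.2 = x} = 0 by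
    rw [h] at hcard
    rw [hm, show m = 0 by omega]; simp
  refine Nat.card_eq_zero.2 (Or.inl ⟨fun q => D.not_real ?_⟩)
  obtain ⟨⟨a, b⟩, ha, hb, hab⟩ := q
  have inv2 : ∀ {c : G}, IsConj g c → c⁻¹ = c := fun {c} hc => by
    obtain ⟨w, rfl⟩ := isConj_iff.1 hc
    have : g⁻¹ = g := inv_eq_of_mul_eq_one_right (by rw [← pow_two, ← hg]; exact pow_orderOf_eq_one g)
    rw [mul_inv_rev, mul_inv_rev, inv_inv, this, mul_assoc]
  refine isConj_iff.2 ⟨a, ?_⟩
  show a * x * a⁻¹ = x⁻¹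
  change IsConj g a at ha
  change IsConj g b at hb
  change a * b = x at hab
  rw [← hab, mul_inv_rev, inv2 ha, inv2 hb, ← mul_assoc, show a * a = 1 by
    nth_rw 2 [← inv2 ha]; exact mul_inv_cancel a, one_mul]

theorem same_count {g : G} (hg : ¬ 11 ∣ orderOf g) (hg1 : g ≠ 1) :
    (∃ m : ℕ, aC p θ χa χb χe χf g = 11 * (Nat.card (cz g) : ℂ) * m) ∧
    ∃ m : ℕ, aC p θ χa χb χe χf g - 11 * ((Cand.K p.st : ℂ) * conj ((θ : G → ℂ) g)) =
      11 * (Nat.card (cz g) : ℂ) * m := by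
  obtain ⟨-, -, -, a3⟩ := F.entryA D
  obtain ⟨-, -, -, b3⟩ := F.entryB D
  obtain ⟨-, -, -, e3⟩ := F.entryE D
  obtain ⟨-, -, -, f3⟩ := F.entryF D
  obtain ⟨-, -, -, t3⟩ := F.entry_T D
  have h11 := D.not_dvd_cz hg hg1
  constructor
  · obtain ⟨m, hm⟩ := D.cz_dvd h11 x⁻¹
    refine ⟨m, ?_⟩
    have hn := D.count_inv hg
    rw [hm, F.sum, trivIrr_apply, trivIrr_apply, map_one] at hn
    push_cast at hn
    unfold aC
    rw [a3, b3, e3, f3, t3, mul_assoc (11 : ℂ), hn]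
    ring
  · obtain ⟨m, hm⟩ := D.cz_dvd h11 x
    refine ⟨m, ?_⟩
    have hn := D.count_same hg
    rw [hm, F.sum, trivIrr_apply, trivIrr_apply, map_one] at hn
    push_cast at hn
    unfold aC
    rw [a3, b3, e3, f3, t3, mul_assoc (11 : ℂ), hn]
    ring

theorem rel' {g : G} (hg : ¬ 11 ∣ orderOf g) : (Cand.sgn p.st : ℂ) * (θ : G → ℂ) g =
    1 + (Cand.sgn p.s1 : ℂ) * (χa : G → ℂ) g + (Cand.sgn p.s2 : ℂ) * (χb : G → ℂ) g +
      (Cand.sgn p.s3 : ℂ) * (χe : G → ℂ) g + (Cand.sgn p.s4 : ℂ) * (χf : G → ℂ) g := by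
  rw [(F.entry_T D).1, (F.entryA D).1, (F.entryB D).1, (F.entryE D).1, (F.entryF D).1, D.rel hg, F.sum,
    trivIrr_apply, D.blk.sgTriv]
  push_cast
  ring

theorem norm' {g : G} (hg : ¬ 11 ∣ orderOf g) : 1 + ‖(χa : G → ℂ) g‖ ^ 2 + ‖(χb : G → ℂ) g‖ ^ 2 +
    ‖(χe : G → ℂ) g‖ ^ 2 + ‖(χf : G → ℂ) g‖ ^ 2 + 2 * ‖(θ : G → ℂ) g‖ ^ 2 ≤ (Nat.card (cz g) : ℝ) := by
  have h := D.column_norm hg
  rw [F.sum, trivIrr_apply, norm_one, one_pow] at h
  exact h

/-- The integral values and the facts they satisfy. -/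
theorem facts {g : G} (hg : ¬ 11 ∣ orderOf g) (hg1 : g ≠ 1) {a b e f t : ℤ} (ha : (χa : G → ℂ) g = a)
    (hb : (χb : G → ℂ) g = b) (he : (χe : G → ℂ) g = e) (hf : (χf : G → ℂ) g = f) (ht : (θ : G → ℂ) g = t) :
    Facts p (Nat.card (cz g)) a b e f t := by
  have hn := F.norm' D hg
  rw [ha, hb, he, hf, ht] at hn
  simp only [Complex.norm_intCast, sq_abs] at hn
  obtain ⟨⟨m₁, h₁⟩, m₂, h₂⟩ := F.same_count D hg hg1
  simp only [aC, ha, hb, he, hf, ht, map_intCast] at h₁ h₂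
  have hA : p.A (a, b, e, f, t) = 11 * (Nat.card (cz g) : ℤ) * m₁ := by
    simp only [Cand.A]; exact_mod_cast h₁
  have hA' : p.A (a, b, e, f, t) - 11 * ((Cand.K p.st : ℤ) * t) = 11 * (Nat.card (cz g) : ℤ) * m₂ := by
    simp only [Cand.A]; exact_mod_cast h₂
  obtain ⟨m₃, h₃, -⟩ := F.cross_count D hg hg hg1
  simp only [qC, ha, hb, he, hf, ht] at h₃
  have hQ : p.Q (a, b, e, f, t) (a, b, e, f, t) = (m₃ : ℤ) * ((Nat.card (cz g) : ℤ) * (Nat.card (cz g) : ℤ)) := by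
    simp only [Cand.Q]; exact_mod_cast h₃
  have hr := F.rel' D hg
  rw [ha, hb, he, hf, ht] at hr
  refine ⟨Nat.le_of_dvd (by norm_num) (D.cz_dvd_8640 hg hg1), ?_, ?_, ?_, ?_, ?_, ?_, by exact_mod_cast hr, ?_, ?_,
    by rw [hA]; positivity, by rw [hA']; positivity, by rw [hQ]; positivity, ?_⟩
  · simp only [← pow_two]; exact_mod_cast hn
  · rw [(F.entryA D).2.2.1]; exact D.abs_lt_of_eq (F.entryA D).2.1 hg1 ha
  · rw [(F.entryB D).2.2.1]; exact D.abs_lt_of_eq (F.entryB D).2.1 hg1 hb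
  · rw [(F.entryE D).2.2.1]; exact D.abs_lt_of_eq (F.entryE D).2.1 hg1 he
  · rw [(F.entryF D).2.2.1]; exact D.abs_lt_of_eq (F.entryF D).2.1 hg1 hf
  · rw [(F.entry_T D).2.2.1]; exact D.abs_lt_of_eq (F.entry_T D).2.1 hg1 ht
  · rw [hA]; exact Int.emod_eq_zero_of_dvd (dvd_mul_right _ _)
  · refine Int.emod_eq_zero_of_dvd ⟨(m₁ : ℤ) - m₂, Int.eq_of_mul_eq_mul_left (a := 11) (by norm_num) ?_⟩
    linear_combination hA - hA'
  · rw [hQ]; exact Int.emod_eq_zero_of_dvd (dvd_mul_left _ _)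

/-- The test against a second element. -/
theorem cross {g h : G} (hg : ¬ 11 ∣ orderOf g) (hg1 : g ≠ 1) (hh : ¬ 11 ∣ orderOf h) {a b e f t a' b' e' f' t' : ℤ}
    (ha : (χa : G → ℂ) g = a) (hb : (χb : G → ℂ) g = b) (he : (χe : G → ℂ) g = e) (hf : (χf : G → ℂ) g = f)
    (ht : (θ : G → ℂ) g = t) (ha' : (χa : G → ℂ) h = a') (hb' : (χb : G → ℂ) h = b') (he' : (χe : G → ℂ) h = e')
    (hf' : (χf : G → ℂ) h = f') (ht' : (θ : G → ℂ) h = t') :
    postCross p (Nat.card (cz h)) (a', b', e', f', t') (Nat.card (cz g)) (a, b, e, f, t) = true := by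
  obtain ⟨m, hm, -⟩ := F.cross_count D hg hh hg1
  simp only [qC, ha, hb, he, hf, ht, ha', hb', he', hf', ht'] at hm
  have hQ : p.Q (a, b, e, f, t) (a', b', e', f', t') = (m : ℤ) * ((Nat.card (cz g) : ℤ) * (Nat.card (cz h) : ℤ)) := by
    simp only [Cand.Q]; exact_mod_cast hm
  simp only [postCross, Bool.and_eq_true, decide_eq_true_eq]
  exact ⟨by rw [hQ]; positivity, by rw [hQ]; exact Int.emod_eq_zero_of_dvd (dvd_mul_left _ _)⟩

theorem invol {g : G} (hg : orderOf g = 2) {a b e f t : ℤ}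
    (ha : (χa : G → ℂ) g = a) (hb : (χb : G → ℂ) g = b) (he : (χe : G → ℂ) g = e) (hf : (χf : G → ℂ) g = f)
    (ht : (θ : G → ℂ) g = t) : postInvol p (Nat.card (cz g)) (a, b, e, f, t) = true := by
  have hm := F.invol_zero D hg
  simp only [qC, ha, hb, he, hf, ht] at hm
  refine decide_eq_true (show p.Q (a, b, e, f, t) (a, b, e, f, t) = 0 from ?_)
  simp only [Cand.Q]
  exact_mod_cast hm

end Frame

end CfsgLib.M12Order
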